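import Cfsg.Agent.Lib.Fusion.Abelian
import Mathlib.GroupTheory.FiniteAbelian.Basic
import Mathlib.Data.ZMod.Basic

/-!
# The transferred bilinear cocycle

For a Sylow subgroup `P`, the cocycle `φ₁ ⊗ φ₂` on `P` is transferred to `G`. When `P` is abelian
and every fusion inside `P` is given by the identity or by inversion, the commutator form of the
transferred cocycle on `P` is `[G : P]` times the determinant form.
-/

set_option autoImplicit false
set_option linter.unusedSectionVars false
set_option linter.style.haveILetI false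

open scoped commutatorElement

namespace Cfsg.Lib.SmithTyrer

universe u

variable {G : Type u} [Group G] {p : ℕ}

/-- A normalized two-cocycle with values in `ZMod p`. -/
structure Cocycle (G : Type u) [Group G] (p : ℕ) where
  toFun : G → G → ZMod p
  cocycle : ∀ g h k, toFun h k + toFun g (h * k) = toFun (g * h) k + toFun g h
  one_left : ∀ g, toFun 1 g = 0
  one_right : ∀ g, toFun g 1 = 0

/-- The central extension of a cocycle. -/
@[ext]
structure Ext (β : Cocycle G p) where
  fst : ZMod p
  snd : G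

namespace Ext

variable {β : Cocycle G p}

instance : One (Ext β) := ⟨⟨0, 1⟩⟩
instance : Mul (Ext β) := ⟨fun a b => ⟨a.fst + b.fst + β.toFun a.snd b.snd, a.snd * b.snd⟩⟩
instance : Inv (Ext β) := ⟨fun a => ⟨-a.fst - β.toFun a.snd⁻¹ a.snd, a.snd⁻¹⟩⟩

theorem one_def : (1 : Ext β) = ⟨0, 1⟩ := rfl
theorem mul_def (a b : Ext β) :
    a * b = ⟨a.fst + b.fst + β.toFun a.snd b.snd, a.snd * b.snd⟩ := rfl
theorem inv_def (a : Ext β) : a⁻¹ = ⟨-a.fst - β.toFun a.snd⁻¹ a.snd, a.snd⁻¹⟩ := rfl

instance : Group (Ext β) where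
  mul_assoc a b c := by
    ext
    · simp only [mul_def]
      linear_combination -(β.cocycle a.snd b.snd c.snd)
    · simp only [mul_def, mul_assoc]
  one_mul a := by ext <;> simp [mul_def, one_def, β.one_left]
  mul_one a := by ext <;> simp [mul_def, one_def, β.one_right]
  inv_mul_cancel a := by
    ext
    · simp only [mul_def, inv_def, one_def]; ring
    · simp [mul_def, inv_def, one_def]

/-- The projection. -/
def proj : Ext β →* G where
  toFun a := a.snd
  map_one' := rfl
  map_mul' _ _ := rfl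

theorem proj_surjective : Function.Surjective (proj (β := β)) := fun g => ⟨⟨0, g⟩, rfl⟩

instance [Finite G] [NeZero p] : Finite (Ext β) :=
  Finite.of_injective (fun a : Ext β => (a.fst, a.snd)) fun a b h => by
    ext <;> simp_all

theorem mem_ker_iff {a : Ext β} : a ∈ (proj (β := β)).ker ↔ a.snd = 1 := Iff.rfl

theorem ker_le_center : (proj (β := β)).ker ≤ Subgroup.center (Ext β) := by
  intro z hz
  rw [mem_ker_iff] at hz
  refine Subgroup.mem_center_iff.2 fun a => ?_
  ext <;> simp [mul_def, hz, β.one_left, β.one_right, add_comm]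

theorem card_ker : Nat.card (proj (β := β)).ker = p := by
  have e : (proj (β := β)).ker ≃ ZMod p :=
    { toFun := fun z => z.1.fst
      invFun := fun t => ⟨⟨t, 1⟩, rfl⟩
      left_inv := fun z => Subtype.ext (by
        ext
        · rfl
        · exact (mem_ker_iff.1 z.2).symm)
      right_inv := fun _ => rfl }
  rw [Nat.card_congr e, Nat.card_zmod]

theorem commutator_mem_ker {g h : G} (hc : Commute g h) :
    ⁅(⟨0, g⟩ : Ext β), (⟨0, h⟩ : Ext β)⁆ ∈ (proj (β := β)).ker := by
  rw [MonoidHom.mem_ker, map_commutatorElement]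
  exact commutatorElement_eq_one_iff_mul_comm.2 hc

theorem commutator_ne_one {g h : G} (hne : β.toFun g h ≠ β.toFun h g) :
    ⁅(⟨0, g⟩ : Ext β), (⟨0, h⟩ : Ext β)⁆ ≠ 1 := by
  intro he
  have := congrArg Ext.fst (commutatorElement_eq_one_iff_mul_comm.1 he)
  simp [mul_def] at this
  exact hne this

end Ext

/-! ## Two independent homomorphisms -/

theorem exists_hom_pair [hp : Fact p.Prime] {A : Type u} [CommGroup A] [Finite A]
    (hA : IsPGroup p A) (hnc : ¬ IsCyclic A) :
    ∃ (f₁ f₂ : A →* Multiplicative (ZMod p)) (a b : A),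
      (f₁ a).toAdd = 1 ∧ (f₂ b).toAdd = 1 ∧ (f₁ b).toAdd = 0 ∧ (f₂ a).toAdd = 0 := by
  classical
  obtain ⟨ι, hι, n, hn, ⟨e⟩⟩ := CommGroup.equiv_prod_multiplicative_zmod_of_finite A
  haveI : ∀ k, NeZero (n k) := fun k => ⟨by have := hn k; omega⟩
  have hdvd : ∀ k, p ∣ n k := by
    intro k
    obtain ⟨r, hr⟩ := hA.exists_card_eq
    have h : n k ∣ p ^ r := by
      rw [← hr, Nat.card_congr e.toEquiv, Nat.card_pi]
      refine dvd_trans (dvd_of_eq ?_) (Finset.dvd_prod_of_mem _ (Finset.mem_univ k))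
      rw [Nat.card_congr Multiplicative.toAdd, Nat.card_zmod]
    obtain ⟨s, -, hs⟩ := (Nat.dvd_prime_pow hp.out).1 h
    rcases Nat.eq_zero_or_pos s with rfl | hs'
    · have := hn k; simp at hs; omega
    · exact hs ▸ dvd_pow_self p hs'.ne'
  obtain ⟨i, j, hij⟩ : ∃ i j : ι, i ≠ j := by
    by_contra h
    push Not at h
    refine hnc ?_
    rcases isEmpty_or_nonempty ι with h0 | ⟨⟨i⟩⟩
    · haveI : Subsingleton A := e.toEquiv.subsingleton
      infer_instance
    · haveI : Unique ι := ⟨⟨i⟩, fun k => h k i⟩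
      have e' : A ≃* Multiplicative (ZMod (n (default : ι))) := e.trans (MulEquiv.piUnique _)
      exact e'.isCyclic.2 inferInstance
  let f : ι → A →* Multiplicative (ZMod p) := fun k =>
    ((ZMod.castHom (hdvd k) (ZMod p)).toAddMonoidHom.toMultiplicative).comp
      ((Pi.evalMonoidHom _ k).comp e.toMonoidHom)
  let v : ι → A := fun k => e.symm (Pi.mulSingle k (Multiplicative.ofAdd 1))
  have hf : ∀ k l, (f k (v l)).toAdd = if k = l then 1 else 0 := by
    intro k l
    simp only [f, v, MonoidHom.comp_apply, MulEquiv.coe_toMonoidHom, MulEquiv.apply_symm_apply,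
      Pi.evalMonoidHom_apply]
    split_ifs with h
    · subst h
      rw [Pi.mulSingle_eq_same]
      exact map_one (ZMod.castHom (hdvd k) (ZMod p))
    · rw [Pi.mulSingle_eq_of_ne h]
      exact map_zero (ZMod.castHom (hdvd k) (ZMod p))
  exact ⟨f i, f j, v i, v j, by rw [hf, if_pos rfl], by rw [hf, if_pos rfl],
    by rw [hf, if_neg hij], by rw [hf, if_neg (Ne.symm hij)]⟩

/-! ## The transfer -/

section Transfer

variable [Finite G] [Fact p.Prime] (P : Sylow p G)

local notation "Ω" => G ⧸ (P : Subgroup G)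


/-- The Schreier map of the transversal `Quotient.out`. -/
noncomputable def cMap (g : G) (i : Ω) : (P : Subgroup G) :=
  ⟨(g • i).out⁻¹ * (g * i.out), QuotientGroup.eq.1 (by
    rw [← smul_eq_mul g i.out, ← MulAction.Quotient.smul_mk, QuotientGroup.out_eq',
      QuotientGroup.out_eq'])⟩

theorem cMap_mul (g h : G) (i : Ω) :
    cMap P (g * h) i = cMap P g (h • i) * cMap P h i := by
  apply Subtype.ext
  simp only [cMap, Subgroup.coe_mul, mul_smul]
  group

theorem cMap_one (i : Ω) : cMap P 1 i = 1 := by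
  apply Subtype.ext
  simp [cMap]

noncomputable local instance fintypeCosetSpaceST : Fintype (G ⧸ (P : Subgroup G)) :=
  Fintype.ofFinite _

variable [IsMulCommutative (P : Subgroup G)]
  (f₁ f₂ : (P : Subgroup G) →* Multiplicative (ZMod p))

theorem sum_smul_eq (g : G) (F : Ω → ZMod p) :
    ∑ i : Ω, F (g • i) = ∑ i : Ω, F i :=
  Equiv.sum_comp (MulAction.toPerm g) F

/-- The transferred cocycle. -/
noncomputable def corCocycle : Cocycle G p where
  toFun g h :=
    ∑ i : Ω, (f₁ (cMap P g (h • i))).toAdd * (f₂ (cMap P h i)).toAdd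
  cocycle g h k := by
    have e : ∑ i : Ω, (f₁ (cMap P g (h • i))).toAdd * (f₂ (cMap P h i)).toAdd =
        ∑ i : Ω, (f₁ (cMap P g (h • k • i))).toAdd * (f₂ (cMap P h (k • i))).toAdd :=
      (sum_smul_eq P k fun i => (f₁ (cMap P g (h • i))).toAdd * (f₂ (cMap P h i)).toAdd).symm
    rw [e, ← Finset.sum_add_distrib, ← Finset.sum_add_distrib]
    refine Finset.sum_congr rfl fun i _ => ?_
    rw [cMap_mul P h k, cMap_mul P g h, mul_smul]
    simp only [map_mul, toAdd_mul]
    ring
  one_left g := by simp [cMap_one]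
  one_right g := by simp [cMap_one]

/-- The sign of the fusion at a point. -/
noncomputable def sgnAt (i : Ω) : ZMod p := by
  classical
  exact if ∀ x : (P : Subgroup G), (x : G) • i = i → cMap P (x : G) i = x then 1 else -1

variable (hfus : ∀ x : (P : Subgroup G), ∀ g : G, (hg : g * x * g⁻¹ ∈ (P : Subgroup G)) →
  (⟨_, hg⟩ : (P : Subgroup G)) = x ∨ (⟨_, hg⟩ : (P : Subgroup G)) = x⁻¹)
  (hp2 : p ≠ 2)

theorem cMap_smul_comm (x z : (P : Subgroup G)) (i : Ω) (hz : (z : G) • i = i) :
    cMap P (z : G) ((x : G) • i) = cMap P (z : G) i := by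
  have h1 : cMap P ((z : G) * x) i = cMap P ((x : G) * z) i :=
    congrArg (cMap P · i) (congrArg Subtype.val (mul_comm' z x))
  rw [cMap_mul, cMap_mul, hz, mul_comm' (cMap P (x : G) i)] at h1
  exact mul_right_cancel h1

theorem sgnAt_smul (x : (P : Subgroup G)) (i : Ω) : sgnAt P ((x : G) • i) = sgnAt P i := by
  have hiff : ∀ z : (P : Subgroup G), ((z : G) • ((x : G) • i) = (x : G) • i) ↔ (z : G) • i = i := by
    intro z
    rw [← mul_smul, show (z : G) * x = x * z from congrArg Subtype.val (mul_comm' z x), mul_smul,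
      smul_left_cancel_iff]
  unfold sgnAt
  congr 1
  exact propext ⟨fun h z hz => by rw [← cMap_smul_comm P x z i hz]; exact h z ((hiff z).2 hz),
    fun h z hz => by rw [cMap_smul_comm P x z i ((hiff z).1 hz)]; exact h z ((hiff z).1 hz)⟩

theorem sgnAt_mul_self (i : Ω) : sgnAt P i * sgnAt P i = 1 := by
  unfold sgnAt; split_ifs <;> ring

include hfus hp2 in
theorem cMap_stab (i : Ω) :
    (∀ x : (P : Subgroup G), (x : G) • i = i → cMap P (x : G) i = x) ∨
      ∀ x : (P : Subgroup G), (x : G) • i = i → cMap P (x : G) i = x⁻¹ := by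
  have hel : ∀ x : (P : Subgroup G), (x : G) • i = i →
      cMap P (x : G) i = x ∨ cMap P (x : G) i = x⁻¹ := by
    intro x hx
    have he : (cMap P (x : G) i : G) = i.out⁻¹ * x * (i.out⁻¹)⁻¹ := by
      simp only [cMap, hx, inv_inv, mul_assoc]
    have hm : i.out⁻¹ * x * (i.out⁻¹)⁻¹ ∈ (P : Subgroup G) := he ▸ (cMap P (x : G) i).2
    have e : cMap P (x : G) i = ⟨_, hm⟩ := Subtype.ext he
    rw [e]
    exact hfus x i.out⁻¹ hm
  have hodd : ∀ x : (P : Subgroup G), x⁻¹ = x → x = 1 := by
    intro x h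
    obtain ⟨k, hk⟩ := IsPGroup.iff_orderOf.1 P.isPGroup' x
    have h2 : orderOf x ∣ 2 := orderOf_dvd_of_pow_eq_one (by
      rw [sq]; exact inv_eq_iff_mul_eq_one.1 h)
    rw [hk] at h2
    refine orderOf_eq_one_iff.1 (hk.trans (Nat.eq_one_of_dvd_coprimes ?_ dvd_rfl h2))
    exact ((Nat.coprime_primes (Fact.out : p.Prime) Nat.prime_two).2 hp2).pow_left k
  by_contra hcon
  push Not at hcon
  obtain ⟨⟨x, hx, hx1⟩, y, hy, hy1⟩ := hcon
  have ex := (hel x hx).resolve_left hx1
  have ey := (hel y hy).resolve_right hy1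
  have hxy : ((x * y : (P : Subgroup G)) : G) • i = i := by
    rw [Subgroup.coe_mul, mul_smul, hy, hx]
  have e : cMap P ((x * y : (P : Subgroup G)) : G) i = x⁻¹ * y := by
    rw [Subgroup.coe_mul, cMap_mul, hy, ex, ey]
  rcases hel _ hxy with h | h <;> rw [e] at h
  · exact hx1 (by rw [ex]; exact mul_right_cancel h)
  · rw [mul_inv_rev, mul_comm' y⁻¹, mul_right_inj] at h
    exact hy1 (by rw [ey]; exact h)

include hfus hp2 in
theorem cMap_stab_sgn (f : (P : Subgroup G) →* Multiplicative (ZMod p)) {i : Ω}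
    {x : (P : Subgroup G)} (hx : (x : G) • i = i) :
    (f (cMap P (x : G) i)).toAdd = sgnAt P i * (f x).toAdd := by
  unfold sgnAt
  split_ifs with h
  · rw [h x hx, one_mul]
  · rw [((cMap_stab P hfus hp2 i).resolve_left h) x hx, map_inv, toAdd_inv, neg_one_mul]

include hfus hp2 in
theorem exists_potential (f : (P : Subgroup G) →* Multiplicative (ZMod p)) :
    ∃ u : Ω → ZMod p, ∀ (x : (P : Subgroup G)) (i : Ω),
      (f (cMap P (x : G) i)).toAdd = sgnAt P i * (f x).toAdd + u i - u ((x : G) • i) := by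
  classical
  let st : Setoid Ω := MulAction.orbitRel (P : Subgroup G) Ω
  let r : Ω → Ω := fun i => (Quotient.mk st i).out
  have hr : ∀ i, ∃ y : (P : Subgroup G), (y : G) • r i = i := fun i =>
    MulAction.mem_orbit_iff.1 (MulAction.orbitRel_apply.1 (st.symm' (Quotient.mk_out i)))
  choose y hy using hr
  have hinv : ∀ (x : (P : Subgroup G)) i, r ((x : G) • i) = r i := fun x i =>
    congrArg Quotient.out (Quotient.sound
      (show st ((x : G) • i) i from MulAction.orbitRel_apply.2 ⟨x, rfl⟩))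
  refine ⟨fun i => sgnAt P (r i) * (f (y i)).toAdd - (f (cMap P (y i : G) (r i))).toAdd,
    fun x i => ?_⟩
  set i' := (x : G) • i with hi'
  have hr' : r i' = r i := hinv x i
  have hy' : (y i' : G) • r i = i' := by rw [← hr']; exact hy i'
  have hw : (((y i')⁻¹ * (x * y i) : (P : Subgroup G)) : G) • r i = r i := by
    simp only [Subgroup.coe_mul, Subgroup.coe_inv, mul_smul]
    rw [hy i, inv_smul_eq_iff, hy']
  have e1 : cMap P ((x * y i : (P : Subgroup G)) : G) (r i) =
      cMap P (x : G) i * cMap P (y i : G) (r i) := by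
    rw [Subgroup.coe_mul, cMap_mul, hy i]
  have e2 : cMap P ((x * y i : (P : Subgroup G)) : G) (r i) =
      cMap P (y i' : G) (r i) * cMap P (((y i')⁻¹ * (x * y i) : (P : Subgroup G)) : G) (r i) := by
    conv_lhs => rw [show x * y i = y i' * ((y i')⁻¹ * (x * y i)) by group]
    rw [Subgroup.coe_mul, cMap_mul, hw]
  have e3 := congrArg (fun z => (f z).toAdd) (e1.symm.trans e2)
  simp only [map_mul, toAdd_mul, cMap_stab_sgn P hfus hp2 f hw, map_inv, toAdd_inv] at e3
  have es : sgnAt P i = sgnAt P (r i) := by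
    conv_lhs => rw [← hy i]
    rw [sgnAt_smul]
  rw [es]
  simp only [hr']
  linear_combination e3

include hfus hp2 in
/-- The commutator form of the transferred cocycle. -/
theorem corCocycle_comm (a b : (P : Subgroup G)) :
    (corCocycle P f₁ f₂).toFun a b - (corCocycle P f₁ f₂).toFun b a =
      ((P : Subgroup G).index : ZMod p) *
        ((f₁ a).toAdd * (f₂ b).toAdd - (f₁ b).toAdd * (f₂ a).toAdd) := by
  classical
  obtain ⟨u, hu⟩ := exists_potential P hfus hp2 f₁
  obtain ⟨v, hv⟩ := exists_potential P hfus hp2 f₂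
  have hs : ∀ (x : (P : Subgroup G)) (F : Ω → ZMod p),
      ∑ i : Ω, sgnAt P i * F ((x : G) • i) = ∑ i : Ω, sgnAt P i * F i := by
    intro x F
    conv_rhs => rw [← sum_smul_eq P (x : G) fun i => sgnAt P i * F i]
    exact Finset.sum_congr rfl fun i _ => by rw [sgnAt_smul]
  have hab : (a : G) * b = b * a := congrArg Subtype.val (mul_comm' a b)
  have key : ∀ x z : (P : Subgroup G),
      (corCocycle P f₁ f₂).toFun x z =
        ((P : Subgroup G).index : ZMod p) * ((f₁ x).toAdd * (f₂ z).toAdd) +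
          ((∑ i : Ω, u ((z : G) • i) * v i - ∑ i : Ω, u i * v i) -
            (∑ i : Ω, u (((x : G) * z) • i) * v i - ∑ i : Ω, u ((x : G) • i) * v i)) := by
    intro x z
    have e : ∀ i : Ω,
        (f₁ (cMap P (x : G) ((z : G) • i))).toAdd * (f₂ (cMap P (z : G) i)).toAdd =
          (f₁ x).toAdd * (f₂ z).toAdd +
          (f₁ x).toAdd * (sgnAt P i * v i) - (f₁ x).toAdd * (sgnAt P i * v ((z : G) • i)) +
          (f₂ z).toAdd * (sgnAt P i * u ((z : G) • i)) -
            (f₂ z).toAdd * (sgnAt P i * u ((x : G) • (z : G) • i)) +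
          ((u ((z : G) • i) * v i - u ((z : G) • i) * v ((z : G) • i)) -
            (u (((x : G) * z) • i) * v i - u ((x : G) • (z : G) • i) * v ((z : G) • i))) := by
      intro i
      rw [hu, hv, sgnAt_smul, mul_smul]
      linear_combination ((f₁ x).toAdd * (f₂ z).toAdd) * sgnAt_mul_self P i
    have h0 : (corCocycle P f₁ f₂).toFun x z = ∑ i : Ω,
        (f₁ (cMap P (x : G) ((z : G) • i))).toAdd * (f₂ (cMap P (z : G) i)).toAdd := by
      rfl
    rw [h0, Finset.sum_congr rfl fun i _ => e i]
    simp only [Finset.sum_add_distrib, Finset.sum_sub_distrib, ← Finset.mul_sum, Finset.sum_const,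
      Finset.card_univ, nsmul_eq_mul]
    rw [hs z v, hs z u, hs z (fun i => u ((x : G) • i)), hs x u,
      sum_smul_eq P (z : G) (fun i => u i * v i),
      sum_smul_eq P (z : G) (fun i => u ((x : G) • i) * v i),
      Subgroup.index, Nat.card_eq_fintype_card]
    ring
  rw [key a b, key b a, hab]
  ring

end Transfer

end Cfsg.Lib.SmithTyrer
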