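import Cfsg.Agent.Lib.SmithTyrer.CentralLift
import Cfsg.Agent.Lib.SmithTyrer.Cocycle
import Cfsg.Agent.Lib.Block.PrincipalFreeShape
import Cfsg.Agent.Lib.Block.CentralQuotientForm
import Cfsg.Agent.Lib.Block.CoverBasics
import Cfsg.Agent.Lib.Char.InvolutionSetSum

/-!
# Smith–Tyrer: the principal block for inertial index two and a noncyclic Sylow subgroup

The central extension given by the transferred cocycle has exactly two characters whose pushed
down combination is `1 - aθ`. Comparing the products of two conjugates of an involution in the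
group and in the extension forces `θ` to be linear.
-/

set_option autoImplicit false
set_option linter.unusedSectionVars false
set_option linter.style.haveILetI false
set_option maxHeartbeats 1600000

open scoped ComplexConjugate commutatorElement

namespace Cfsg.Lib.SmithTyrer

open Cfsg Cfsg.Lib Cfsg.Lib.Block

universe u

variable {p : ℕ} [hp : Fact p.Prime] {M : Ideal AlgInt} {G : Type u} [Group G] [Fintype G]

noncomputable local instance (priority := high) fintypeSubgroupSmithTyrer (H : Subgroup G) :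
    Fintype H := Fintype.ofFinite H

section Basics

variable {P : Sylow p G} [IsMulCommutative (P : Subgroup G)]

theorem eq_one_of_inv_eq (hp2 : p ≠ 2) {A : Type u} [Group A] {x : A} (hx : ∃ k, orderOf x = p ^ k)
    (h : x⁻¹ = x) : x = 1 := by
  obtain ⟨k, hk⟩ := hx
  have h2 : orderOf x ∣ 2 := orderOf_dvd_of_pow_eq_one (by
    rw [sq]; exact inv_eq_iff_mul_eq_one.1 h)
  rw [hk] at h2
  refine orderOf_eq_one_iff.1 (hk.trans (Nat.eq_one_of_dvd_coprimes ?_ dvd_rfl h2))
  exact ((Nat.coprime_primes hp.out Nat.prime_two).2 hp2).pow_left k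

theorem mul_self_mem_centralizer
    (hCN : (Subgroup.centralizer ((P : Subgroup G) : Set G)).relIndex
      (Subgroup.normalizer ((P : Subgroup G) : Set G)) = 2) {a b : G}
    (ha : a ∈ Subgroup.normalizer ((P : Subgroup G) : Set G))
    (hb : b ∈ Subgroup.normalizer ((P : Subgroup G) : Set G)) :
    (a * b ∈ Subgroup.centralizer ((P : Subgroup G) : Set G) ↔
      (a ∈ Subgroup.centralizer ((P : Subgroup G) : Set G) ↔
        b ∈ Subgroup.centralizer ((P : Subgroup G) : Set G))) := by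
  have h := Subgroup.mul_mem_iff_of_index_two (H := (Subgroup.centralizer
    ((P : Subgroup G) : Set G)).subgroupOf (Subgroup.normalizer ((P : Subgroup G) : Set G)))
    (a := ⟨a, ha⟩) (b := ⟨b, hb⟩) hCN
  simpa [Subgroup.mem_subgroupOf] using h

/-- An element of the normalizer outside the centralizer inverts the Sylow subgroup. -/
theorem inverts (hfree : FreeAction P)
    (hCN : (Subgroup.centralizer ((P : Subgroup G) : Set G)).relIndex
      (Subgroup.normalizer ((P : Subgroup G) : Set G)) = 2) {n : G}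
    (hn : n ∈ Subgroup.normalizer ((P : Subgroup G) : Set G))
    (hnC : n ∉ Subgroup.centralizer ((P : Subgroup G) : Set G)) {v : G}
    (hv : v ∈ (P : Subgroup G)) : n * v * n⁻¹ = v⁻¹ := by
  have hw : n * v * n⁻¹ ∈ (P : Subgroup G) := (Subgroup.mem_normalizer_iff.1 hn v).1 hv
  have hn2 := (mul_self_mem_centralizer hCN hn hn).2 Iff.rfl
  have h2 := (Subgroup.mem_centralizer_iff.1 hn2 v hv).symm
  set w := v * (n * v * n⁻¹) with hwdef
  have hwP : w ∈ (P : Subgroup G) := mul_mem hv hw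
  have hfix : n * w * n⁻¹ = w := by
    have e : n * (n * v * n⁻¹) * n⁻¹ = v := by
      calc n * (n * v * n⁻¹) * n⁻¹ = n * n * v * (n * n)⁻¹ := by group
        _ = v := by rw [h2, mul_inv_cancel_right]
    calc n * w * n⁻¹ = (n * v * n⁻¹) * (n * (n * v * n⁻¹) * n⁻¹) := by rw [hwdef]; group
      _ = (n * v * n⁻¹) * v := by rw [e]
      _ = w := congrArg Subtype.val (mul_comm' (⟨_, hw⟩ : (P : Subgroup G)) ⟨v, hv⟩)
  by_contra hne
  have hw1 : w ≠ 1 := fun h => hne (mul_eq_one_iff_eq_inv'.1 h)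
  exact hnC (hfree w hwP hw1 ▸ ⟨Subgroup.mem_centralizer_singleton_iff.2
    (mul_inv_eq_iff_eq_mul.1 hfix), hn⟩)

theorem fusion_pm (hfree : FreeAction P)
    (hCN : (Subgroup.centralizer ((P : Subgroup G) : Set G)).relIndex
      (Subgroup.normalizer ((P : Subgroup G) : Set G)) = 2) (x : (P : Subgroup G)) (g : G)
    (hg : g * x * g⁻¹ ∈ (P : Subgroup G)) :
    (⟨_, hg⟩ : (P : Subgroup G)) = x ∨ (⟨_, hg⟩ : (P : Subgroup G)) = x⁻¹ := by
  obtain ⟨n, hn, he⟩ := Fusion.exists_normalizer_conj_of_abelian P x.2 hg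
  by_cases hnC : n ∈ Subgroup.centralizer ((P : Subgroup G) : Set G)
  · exact Or.inl (Subtype.ext (by
      show g * x * g⁻¹ = _
      rw [← he, ← Subgroup.mem_centralizer_iff.1 hnC x x.2, mul_inv_cancel_right]))
  · exact Or.inr (Subtype.ext (by
      show g * x * g⁻¹ = _
      rw [← he, inverts hfree hCN hn hnC x.2]; rfl))

theorem nine_le (hp2 : p ≠ 2) (hnc : ¬ IsCyclic (P : Subgroup G)) :
    9 ≤ Nat.card (P : Subgroup G) := by
  obtain ⟨k, hk⟩ := P.isPGroup'.exists_card_eq
  rw [hk]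
  rcases k with _ | _ | k
  · exact absurd (by
      haveI : Subsingleton (P : Subgroup G) :=
        (Nat.card_eq_one_iff_unique.1 (by rw [hk, pow_zero])).1
      infer_instance) hnc
  · exact absurd (isCyclic_of_prime_card (p := p) (by rw [hk, zero_add, pow_one])) hnc
  · have h3 : 3 ≤ p := by
      have := hp.out.two_le
      omega
    calc 9 ≤ p * p := Nat.mul_le_mul h3 h3
      _ ≤ p ^ (k + 1 + 1) := by
        rw [← sq]; exact Nat.pow_le_pow_right hp.out.pos (by omega)

end Basics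

section Generalized

variable {A : Type u} [Group A] [Fintype A]

/-- A generalized character of norm two has two irreducible constituents with signs. -/
theorem exists_two_signed {f : A → ℂ} (hf : IsGeneralizedCharacter A f)
    (h2 : classInner f f = 2) :
    ∃ (ε₁ ε₂ : ℤ) (μ₁ μ₂ : IrrCharacter A), μ₁ ≠ μ₂ ∧ ε₁ * ε₁ = 1 ∧ ε₂ * ε₂ = 1 ∧
      classInner f (μ₁ : A → ℂ) = ε₁ ∧ classInner f (μ₂ : A → ℂ) = ε₂ ∧
      ∀ x, f x = ε₁ * (μ₁ : A → ℂ) x + ε₂ * (μ₂ : A → ℂ) x := by
  classical
  have hcf := hf.isClassFunction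
  choose n hn using fun χ : IrrCharacter A => (Char.isGeneralizedCharacter_iff.1 hf).2 χ χ.2
  have hsum : ∑ χ, n χ * n χ = 2 := by
    rw [Char.classInner_eq_sum hcf] at h2
    simp only [hn, map_intCast] at h2
    exact_mod_cast h2
  have hle : ∀ χ, n χ * n χ ≤ 2 := fun χ =>
    hsum ▸ Finset.single_le_sum (f := fun y => n y * n y) (fun _ _ => mul_self_nonneg _)
      (Finset.mem_univ χ)
  have hone : ∀ χ, n χ * n χ = if n χ ≠ 0 then 1 else 0 := by
    intro χ
    have h1 := hle χ
    have : n χ = 0 ∨ n χ = 1 ∨ n χ = -1 := by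
      rcases le_or_gt (n χ) (-2) with h | h
      · nlinarith
      rcases le_or_gt 2 (n χ) with h' | h'
      · nlinarith
      omega
    rcases this with h | h | h <;> simp [h]
  rw [Finset.sum_congr rfl fun χ _ => hone χ, Finset.sum_boole] at hsum
  obtain ⟨μ₁, μ₂, hne, hset⟩ := Finset.card_eq_two.1 (by exact_mod_cast hsum :
    (Finset.univ.filter fun χ => n χ ≠ 0).card = 2)
  have hm : ∀ χ, χ = μ₁ ∨ χ = μ₂ ↔ n χ ≠ 0 := fun χ => by
    simpa using (Finset.ext_iff.1 hset χ).symm
  refine ⟨n μ₁, n μ₂, μ₁, μ₂, hne, ?_, ?_, hn μ₁, hn μ₂, fun x => ?_⟩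
  · rw [hone, if_pos ((hm μ₁).1 (Or.inl rfl))]
  · rw [hone, if_pos ((hm μ₂).1 (Or.inr rfl))]
  · have h := congrFun (Char.eq_sum_classInner hcf) x
    rw [Finset.sum_apply, Fintype.sum_eq_add μ₁ μ₂ hne] at h
    · simpa [hn] using h
    · rintro χ ⟨h1, h2'⟩
      have : n χ = 0 := by
        by_contra hc
        exact ((hm χ).2 hc).elim h1 h2'
      simp [hn, this]

end Generalized

section Ext

variable {E : Type u} [Group E] [Fintype E] {π : E →* G} (X : CentExt p π)

include X hp in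
theorem comp_mem_principal_iff (hM : IsPModular p M) {χ : IrrCharacter G} {χ' : IrrCharacter E}
    (he : (χ' : E → ℂ) = fun x => (χ : G → ℂ) (π x)) :
    χ' ∈ principalBlock M E ↔ χ ∈ principalBlock M G := by
  classical
  refine ⟨fun h => ?_, fun h => ?_⟩
  · have e : E ⧸ π.ker ≃* G := QuotientGroup.quotientKerEquivOfSurjective π X.surj
    set e := QuotientGroup.quotientKerEquivOfSurjective π X.surj
    haveI := Fintype.ofFinite (E ⧸ π.ker)
    have hχe : IsIrrCharacter (E ⧸ π.ker) (fun q => (χ : G → ℂ) (e q)) :=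
      χ.2.comp_surjective e.toMonoidHom e.surjective
    have hs := (sameBlock_inflate_iff hM π.ker π.ker (ker_isPGroup X) le_rfl
      (fun g _ _ => centralizer_of_le_center X.central g) (trivChar (E ⧸ π.ker)) ⟨_, hχe⟩).2
    have h' : SameBlock M (fun _ : E => (1 : ℂ)) (χ' : E → ℂ) := h
    rw [he] at h'
    have hq : SameBlock M (fun _ : E ⧸ π.ker => (1 : ℂ)) (fun q => (χ : G → ℂ) (e q)) := by
      have := hs (by rw [trivChar_coe]; exact h')
      rwa [trivChar_coe] at this
    have := sameBlock_comp (π := e.symm.toMonoidHom) hM e.symm.surjective hq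
    simp only [MulEquiv.coe_toMonoidHom, MulEquiv.apply_symm_apply] at this
    exact this
  · have := sameBlock_comp hM X.surj (show SameBlock M (fun _ : G => (1 : ℂ)) (χ : G → ℂ) from h)
    rw [← he] at this
    exact this

include X hp in
theorem classInner_down_eq_zero (hM : IsPModular p M) {ψ : IrrCharacter E} {χ : IrrCharacter G}
    (h : ψ ∈ principalBlock M E ↔ χ ∉ principalBlock M G) :
    classInner (down p π (ψ : E → ℂ)) (χ : G → ℂ) = 0 := by
  have hχ' : IsIrrCharacter E (fun x => (χ : G → ℂ) (π x)) := χ.2.comp_surjective π X.surj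
  have hi := comp_mem_principal_iff X hM (χ := χ) (χ' := ⟨_, hχ'⟩) rfl
  rw [classInner_down X]
  refine mul_eq_zero_of_right _ ?_
  by_cases hψ : ψ ∈ principalBlock M E
  · exact regInner_eq_zero hM (vInt_indVec hM isPBlock_principal) hψ
      (ψ := ⟨_, hχ'⟩) (fun h' => h.1 hψ (hi.1 h'))
  · have hχ : χ ∈ principalBlock M G := by by_contra hn; exact hψ (h.2 hn)
    have h0 := regInner_eq_zero (p := p) hM (vInt_indVec hM isPBlock_principal) (hi.2 hχ)
      (ψ := ψ) hψ
    rw [← regInner_conj]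
    rw [h0, map_zero]

include X hp in
theorem down_one (f : E → ℂ) : down p π f 1 = f 1 := by
  have h1 : IsPRegular p (1 : G) := by simp [IsPRegular, hp.out.ne_one]
  have h := lift_proj X (x := (1 : E)) (by simp [IsPRegular, hp.out.ne_one])
  rw [map_one] at h
  rw [down, pRegularPart_of_reg h1, h]

include X hp in
/-- The companion of a principal constituent is principal. -/
theorem mem_principal_companion (hM : IsPModular p M) {Φ : G → ℂ}
    (hΦB : ∀ χ : IrrCharacter G, χ ∉ principalBlock M G → classInner Φ (χ : G → ℂ) = 0)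
    {χ₁ χ₂ : IrrCharacter E} {ε₁ ε₂ : ℂ} (hε₂ : ε₂ ≠ 0)
    (heq : ∀ g, ε₁ * down p π (χ₁ : E → ℂ) g + ε₂ * down p π (χ₂ : E → ℂ) g = Φ g)
    (h₁ : χ₁ ∈ principalBlock M E) : χ₂ ∈ principalBlock M E := by
  classical
  by_contra h₂
  have hall : ∀ χ : IrrCharacter G, classInner (down p π (χ₂ : E → ℂ)) (χ : G → ℂ) = 0 := by
    intro χ
    by_cases hχ : χ ∈ principalBlock M G
    · exact classInner_down_eq_zero X hM (iff_of_false h₂ (not_not.2 hχ))
    · have e : classInner Φ (χ : G → ℂ) = ε₁ * classInner (down p π (χ₁ : E → ℂ)) (χ : G → ℂ) +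
          ε₂ * classInner (down p π (χ₂ : E → ℂ)) (χ : G → ℂ) := by
        rw [← Char.classInner_smul_left, ← Char.classInner_smul_left, ← Char.classInner_add_left]
        exact congrArg (classInner · (χ : G → ℂ)) (funext fun g => (heq g).symm)
      rw [hΦB χ hχ, classInner_down_eq_zero X hM (iff_of_true h₁ hχ), mul_zero, zero_add,
        eq_comm, mul_eq_zero] at e
      exact e.resolve_left hε₂
  have h0 := congrFun (Char.eq_sum_classInner
    (isClassFunction_down X χ₂.2.isClassFunction)) 1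
  rw [down_one X, Finset.sum_apply, Finset.sum_eq_zero fun χ _ => by simp [hall χ]] at h0
  exact χ₂.2.apply_one_ne_zero h0

include X hp in
/-- Products of two conjugates of a lifted involution carry no kernel component. -/
theorem twistLift_pair (hp2 : p ≠ 2) (w : π.ker →* ℂˣ) {Φ : G → ℂ}
    (hvan : ∀ g, ¬ IsPRegular p g → Φ g = 0) {x y : E} (hx : x⁻¹ = x) (hy : y⁻¹ = y) :
    twistLift p π w Φ (x * y) = Φ (π x * π y) := by
  rw [← map_mul]
  by_cases hg : IsPRegular p (π (x * y))
  · rw [twistLift_of_reg X w Φ hg]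
    set r := lift p π (π (x * y)) with hr
    set z := zeta p π (x * y) with hzdef
    have hz : z ∈ π.ker := zeta_mem X hg
    have hconj : x * (x * y) * x⁻¹ = (x * y)⁻¹ := by
      rw [mul_inv_rev, hx, hy, ← mul_assoc x x y, inv_eq_iff_mul_eq_one.1 hx, one_mul]
    have hrr : x * r * x⁻¹ = r⁻¹ := by
      rw [hr, ← lift_conj X hg, ← lift_inv X hg, ← map_inv π x, ← map_mul, ← map_mul, hconj,
        map_inv]
    have e : z * r⁻¹ = z⁻¹ * r⁻¹ := by
      calc z * r⁻¹ = z * (x * r * x⁻¹) := by rw [hrr]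
        _ = x * (z * r) * x⁻¹ := by
          rw [← mul_assoc, ← mul_assoc, (ker_comm X hz x).eq]; group
        _ = (x * y)⁻¹ := by rw [hzdef, hr, zeta_mul_lift, hconj]
        _ = r⁻¹ * z⁻¹ := by rw [← zeta_mul_lift (p := p) (π := π) (x * y), mul_inv_rev]
        _ = z⁻¹ * r⁻¹ := ((ker_comm X (inv_mem hz) r⁻¹).eq).symm
    have hz1 : z = 1 := eq_one_of_inv_eq hp2
      (exists_orderOf_eq_pow_of_mem (ker_isPGroup X) hz) (mul_right_cancel e).symm
    have e2 : (⟨z, hz⟩ : π.ker) = 1 := Subtype.ext hz1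
    rw [e2, map_one, Units.val_one, one_mul]
  · rw [twistLift_of_sing w Φ hg, hvan _ hg]

end Ext

section ClassPairs

variable {A : Type u} [Group A] [Fintype A] [DecidableEq A]

theorem conjClosed_classFinset (s : A) : Char.ConjClosed (Char.classFinset s) := fun k _ h =>
  Char.mem_classFinset.2 ((Char.mem_classFinset.1 h).trans (isConj_iff.2 ⟨k, rfl⟩))

theorem sum_class_pair (χ : IrrCharacter A) (s : A) :
    ∑ x ∈ Char.classFinset s, ∑ y ∈ Char.classFinset s, (χ : A → ℂ) (x * y) =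
      ((Char.classFinset s).card : ℂ) ^ 2 * ((χ : A → ℂ) s ^ 2 / (χ : A → ℂ) 1) := by
  have h : ∑ x ∈ Char.classFinset s, (χ : A → ℂ) x =
      ((Char.classFinset s).card : ℂ) * (χ : A → ℂ) s := by
    rw [← nsmul_eq_mul, ← Finset.sum_const]
    refine Finset.sum_congr rfl fun x hx => ?_
    obtain ⟨c, rfl⟩ := isConj_iff.1 (Char.mem_classFinset.1 hx)
    exact χ.2.isClassFunction s c
  rw [Char.sum_conjClosed_pair (conjClosed_classFinset s) χ.2, h]
  ring

end ClassPairs

section Main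

variable {P : Sylow p G} [IsMulCommutative (P : Subgroup G)]

/-- The principal block for inertial index two. -/
theorem exists_shape_two (hM : IsPModular p M) (hp2 : p ≠ 2)
    (hnc : ¬ IsCyclic (P : Subgroup G)) (hfree : FreeAction P)
    (hCN : (Subgroup.centralizer ((P : Subgroup G) : Set G)).relIndex
      (Subgroup.normalizer ((P : Subgroup G) : Set G)) = 2) :
    ∃ (θ : IrrCharacter G) (y : HomOrb P → IrrCharacter G) (a δ : ℤ),
      a * a = 1 ∧ δ * δ = 1 ∧ θ ≠ trivChar G ∧ θ ∈ principalBlock M G ∧ Function.Injective y ∧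
      trivChar G ∉ Set.range y ∧ θ ∉ Set.range y ∧
      principalBlock M G = {trivChar G, θ} ∪ Set.range y ∧
      (∀ g, ¬ IsPRegular p g → (θ : G → ℂ) g = a) ∧
      (∀ i j g, IsPRegular p g → (y i : G → ℂ) g = (y j : G → ℂ) g) ∧
      (∀ j g, IsPRegular p g → (δ : ℂ) * (y j : G → ℂ) g = 1 + (a : ℂ) * (θ : G → ℂ) g) ∧
      ∃ v : (P : Subgroup G), v ≠ 1 ∧ ∑ j, (y j : G → ℂ) v = -(δ : ℂ) := by
  classical
  have hq := nine_le hp2 hnc
  have hh := card_homOrb hfree hCN
  have hP1 : Nat.card (P : Subgroup G) ≠ 1 := by omega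
  rw [Nat.card_eq_fintype_card (α := HomOrb P)] at hh
  have h2 : 2 ≤ Fintype.card (HomOrb P) := by omega
  obtain ⟨y, n, δ, w, S⟩ := exists_freeShape hM hfree hCN hP1 h2
  have hnorm := S.norm_eq hM hfree hCN h2
  set Xs := (principalBlock M G \ Set.range y).toFinset with hXs
  have htriv : trivChar G ∈ Xs :=
    Set.mem_toFinset.2 ⟨trivChar_mem_principal hM, S.triv_not_range hM h2⟩
  have hn1 : n (trivChar G) = -1 := S.n_triv hM h2
  rw [← Finset.add_sum_erase _ _ htriv, hn1] at hnorm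
  have hrest : 0 ≤ ∑ χ ∈ Xs.erase (trivChar G), (-n χ) ^ 2 :=
    Finset.sum_nonneg fun _ _ => sq_nonneg _
  have hw : w = 0 := by
    by_contra hw
    have h1 : 1 ≤ (-w) ^ 2 := by
      have : 0 < (-w) ^ 2 := sq_pos_of_ne_zero (neg_ne_zero.2 hw)
      omega
    have h4 : (4 : ℤ) ≤ Fintype.card (HomOrb P) := by omega
    have h5 : (3 : ℤ) * 1 ≤ ((Fintype.card (HomOrb P) : ℤ) - 1) * (-w) ^ 2 :=
      mul_le_mul (by linarith) h1 (by norm_num) (by linarith)
    push_cast at hnorm
    linarith [sq_nonneg (-w - δ), hrest]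
  subst hw
  have hδ : δ * δ = 1 := by rcases S.sign with h | h <;> simp [h]
  have hsum1 : ∑ χ ∈ Xs.erase (trivChar G), (-n χ) ^ 2 = 1 := by push_cast at hnorm; nlinarith
  obtain ⟨θ, hθ⟩ : (Xs.erase (trivChar G)).Nonempty := by
    by_contra hne
    rw [Finset.not_nonempty_iff_eq_empty.1 hne, Finset.sum_empty] at hsum1
    exact zero_ne_one hsum1
  have hmemX : ∀ χ ∈ Xs.erase (trivChar G),
      χ ∈ principalBlock M G ∧ χ ∉ Set.range y := fun χ hχ => by
    have h := Finset.mem_of_mem_erase hχ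
    rw [hXs, Set.mem_toFinset] at h
    exact h
  have hpos : ∀ χ ∈ Xs.erase (trivChar G), 1 ≤ (-n χ) ^ 2 := fun χ hχ => by
    have : 0 < (-n χ) ^ 2 := by
      exact sq_pos_of_ne_zero (neg_ne_zero.2 (S.ne_zero χ (hmemX χ hχ).1 (hmemX χ hχ).2))
    omega
  have hsingle : Xs.erase (trivChar G) = {θ} := by
    refine Finset.eq_singleton_iff_unique_mem.2 ⟨hθ, fun χ hχ => ?_⟩
    by_contra hne
    have := Finset.sum_le_sum_of_subset_of_nonneg (f := fun χ => (-n χ) ^ 2)
      (show ({χ, θ} : Finset _) ⊆ Xs.erase (trivChar G) from by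
        simp [Finset.insert_subset_iff, hχ, hθ]) (fun _ _ _ => sq_nonneg _)
    rw [Finset.sum_pair hne, hsum1] at this
    have := hpos χ hχ
    have := hpos θ hθ
    omega
  have hna : (-n θ) * (-n θ) = 1 := by
    rw [hsingle, Finset.sum_singleton, sq] at hsum1; exact hsum1
  have hXeq : Xs = {trivChar G, θ} := by
    rw [← Finset.insert_erase htriv, hsingle]
  have hBeq : principalBlock M G = {trivChar G, θ} ∪ Set.range y := by
    have hsub : Set.range y ⊆ principalBlock M G := by rintro _ ⟨j, rfl⟩; exact S.mem j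
    rw [← Set.sdiff_union_of_subset hsub]
    congr 1
    have := congrArg (fun s : Finset (IrrCharacter G) => (s : Set (IrrCharacter G))) hXeq
    simpa [hXs] using this
  obtain ⟨v, hv⟩ : ∃ v : (P : Subgroup G), v ≠ 1 := by
    haveI : Nontrivial (P : Subgroup G) := Finite.one_lt_card_iff_nontrivial.1 (by omega)
    exact exists_ne 1
  refine ⟨θ, y, -n θ, δ, hna, hδ, (Finset.mem_erase.1 hθ).1, (hmemX θ hθ).1, S.inj,
    S.triv_not_range hM h2, (hmemX θ hθ).2, hBeq, fun g hg => ?_, S.regEq, fun j g hg => ?_,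
    v, hv, ?_⟩
  · obtain ⟨c, hc⟩ := exists_conj_mem_sylow hM P (exists_orderOf_pPt (p := p) g)
    have hpart : IsPPart p (c * g * c⁻¹) (c * pPt p g * c⁻¹) := by
      refine ⟨c * pReg p g * c⁻¹, ?_, ?_, ?_, ?_⟩
      · calc c * pPt p g * c⁻¹ * (c * pReg p g * c⁻¹) = c * (pPt p g * pReg p g) * c⁻¹ := by group
          _ = _ := by rw [pPt_mul_pReg]
      · exact (pPt_commute_pReg g).map (MulAut.conj c).toMonoidHom
      · obtain ⟨k, hk⟩ := exists_orderOf_pPt (p := p) g
        exact ⟨k, ((MulAut.conj c).orderOf_eq _).trans hk⟩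
      · exact fun h => not_dvd_orderOf_pReg (p := p) g (((MulAut.conj c).orderOf_eq _) ▸ h)
    have h1 : c * pPt p g * c⁻¹ ≠ 1 := fun h => hg ((pPt_eq_one_iff (p := p) g).1 (by
      simpa [mul_assoc] using congrArg (fun z => c⁻¹ * z * c) h))
    rw [← θ.2.isClassFunction g c]
    exact S.value_X hM hfree (hmemX θ hθ).1 (hmemX θ hθ).2 hpart hc h1
  · have h := S.relation hM hfree hCN j hg
    rw [show (principalBlock M G \ Set.range y).toFinset = Xs from rfl, hXeq,
      Finset.sum_pair (Ne.symm (Finset.mem_erase.1 hθ).1), hn1, trivChar_coe] at h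
    push_cast at h ⊢
    linear_combination -h
  · simp_rw [FreeShape.apply_eq_sum_homMult _ hv]
    rw [Finset.sum_comm]
    have e : ∀ ψ ∈ Finset.univ.filter (fun ψ : (P : Subgroup G) →* ℂˣ => ψ ≠ 1),
        ∑ j, homMult P ψ (y j) * (ψ v : ℂ) = (δ : ℂ) * (ψ v : ℂ) := by
      intro ψ hψ
      rw [← Finset.sum_mul]
      congr 1
      rw [Finset.sum_congr rfl fun j _ => S.coeff ⟨ψ, (Finset.mem_filter.1 hψ).2⟩ j]
      simp
    rw [Finset.sum_congr rfl e, ← Finset.mul_sum, FreeShape.sum_nontrivial hv, mul_neg, mul_one]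

/-- The algebra of the comparison. -/
theorem weight_identity {N₁ N₂ M₁ M₂ D U σ : ℂ} (h1 : N₁ ≠ 0) (h2 : N₂ ≠ 0) (hD : D ≠ 0)
    (a1 : N₁ + N₂ = 1 - D) (a2 : N₁ - N₂ = σ * (1 + D)) (b1 : M₁ + M₂ = 1 - U)
    (b2 : M₁ - M₂ = σ * (1 + U))
    (he : M₁ ^ 2 / N₁ + M₂ ^ 2 / N₂ = 1 - U ^ 2 / D) :
    (σ ^ 2 - 1) * ((1 - D) * (D - U) ^ 2) = 0 := by
  obtain rfl : N₁ = ((1 - D) + σ * (1 + D)) / 2 := by linear_combination (a1 + a2) / 2
  obtain rfl : N₂ = ((1 - D) - σ * (1 + D)) / 2 := by linear_combination (a1 - a2) / 2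
  obtain rfl : M₁ = ((1 - U) + σ * (1 + U)) / 2 := by linear_combination (b1 + b2) / 2
  obtain rfl : M₂ = ((1 - U) - σ * (1 + U)) / 2 := by linear_combination (b1 - b2) / 2
  rw [div_add_div _ _ h1 h2, one_sub_div hD, div_eq_div_iff (mul_ne_zero h1 h2) hD] at he
  linear_combination (-4 : ℂ) * he

include hp in
/-- An involution outside the kernel of the principal block forces `θ` to be linear. -/
theorem degree_one_of_involution (hM : IsPModular p M) (hp2 : p ≠ 2)
    (hnc : ¬ IsCyclic (P : Subgroup G)) (hfree : FreeAction P)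
    (hCN : (Subgroup.centralizer ((P : Subgroup G) : Set G)).relIndex
      (Subgroup.normalizer ((P : Subgroup G) : Set G)) = 2)
    (hcore : pPrimeCore p G = ⊥) :
    ∃ θ : IrrCharacter G, θ ≠ trivChar G ∧ θ ∈ principalBlock M G ∧ (θ : G → ℂ) 1 = 1 ∧
      ∀ g, ¬ IsPRegular p g → (θ : G → ℂ) g = 1 := by
  classical
  obtain ⟨θ, y, a, δ, ha, hδ, hθ1, hθB, hyinj, htriv, hθy, hB, hsing, hreg, hrel, v, hv, hvsum⟩ :=
    exists_shape_two hM hp2 hnc hfree hCN
  have haC : (a : ℂ) * a = 1 := by exact_mod_cast ha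
  have hδC : (δ : ℂ) * δ = 1 := by exact_mod_cast hδ
  -- the involution
  obtain ⟨s, hs⟩ : ∃ s : G, orderOf s = 2 := by
    have h2d : 2 ∣ Nat.card G := by
      refine dvd_trans ?_ (Subgroup.card_subgroup_dvd_card
        (Subgroup.normalizer ((P : Subgroup G) : Set G)))
      refine hCN ▸ ?_
      exact Subgroup.index_dvd_card _
    exact exists_prime_orderOf_dvd_card' 2 h2d
  have hsreg : IsPRegular p s := by
    rw [IsPRegular, hs]
    exact fun h => hp2 ((Nat.prime_dvd_prime_iff_eq hp.out Nat.prime_two).1 h)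
  have hsinv : s⁻¹ = s := inv_eq_of_mul_eq_one_right (by rw [← sq, ← hs]; exact pow_orderOf_eq_one s)
  -- the function `Φ`
  set Φ : G → ℂ := fun g => 1 - (a : ℂ) * (θ : G → ℂ) g with hΦdef
  have hΦsmul : Φ = (trivChar G : G → ℂ) - (a : ℂ) • (θ : G → ℂ) := by
    funext g; simp [hΦdef, trivChar_coe]
  have hvan : ∀ g, ¬ IsPRegular p g → Φ g = 0 := fun g hg => by
    simp only [hΦdef, hsing g hg, haC, sub_self]
  have hΦgen : IsGeneralizedCharacter G Φ := by
    refine Char.isGeneralizedCharacter_iff.2 ⟨fun g h => by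
      simp only [hΦdef, θ.2.isClassFunction g h], fun χ hχ => ?_⟩
    rw [hΦsmul, Char.classInner_sub_left, Char.classInner_smul_left]
    obtain ⟨i, hi⟩ := (trivChar G).2.isCharacter.exists_nat_classInner hχ.isCharacter
    obtain ⟨j, hj⟩ := θ.2.isCharacter.exists_nat_classInner hχ.isCharacter
    exact ⟨i - a * j, by rw [hi, hj]; push_cast; ring⟩
  have hinner : ∀ χ : IrrCharacter G, classInner Φ (χ : G → ℂ) =
      (if χ = trivChar G then 1 else 0) - (a : ℂ) * (if χ = θ then 1 else 0) := by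
    intro χ
    rw [hΦsmul, Char.classInner_sub_left, Char.classInner_smul_left]
    congr 2
    · split_ifs with h
      · subst h; exact Char.classInner_irr_self (trivChar G).2
      · exact Char.classInner_irr_ne (trivChar G).2 χ.2 fun h' => h (Subtype.ext h').symm
    · split_ifs with h
      · subst h; exact Char.classInner_irr_self χ.2
      · exact Char.classInner_irr_ne θ.2 χ.2 fun h' => h (Subtype.ext h').symm
  have hΦB : ∀ χ : IrrCharacter G, χ ∉ principalBlock M G → classInner Φ (χ : G → ℂ) = 0 := by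
    intro χ hχ
    rw [hinner, if_neg fun h : χ = trivChar G => hχ (by rw [h]; exact trivChar_mem_principal hM),
      if_neg fun h : χ = θ => hχ (h ▸ hθB)]
    ring
  have hnorm : classInner Φ Φ = 2 := by
    conv_lhs => arg 1; rw [hΦsmul]
    rw [Char.classInner_sub_left, Char.classInner_smul_left, ← Char.classInner_conj_symm,
      ← Char.classInner_conj_symm Φ (θ : G → ℂ), hinner, hinner, if_pos rfl,
      if_neg (Ne.symm hθ1), if_neg hθ1, if_pos rfl]
    simp only [map_sub, map_mul, map_intCast, map_one, map_zero]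
    linear_combination haC
  -- the extension
  letI : CommGroup (P : Subgroup G) :=
    { (inferInstance : Group (P : Subgroup G)) with mul_comm := mul_comm' }
  obtain ⟨f₁, f₂, α, β, h11, h22, h12, h21⟩ := exists_hom_pair P.isPGroup' hnc
  set c := corCocycle P f₁ f₂ with hc
  haveI : Fintype (Ext c) := Fintype.ofFinite _
  set π := Ext.proj (β := c) with hπ
  have X : CentExt p π := ⟨Ext.proj_surjective, Ext.ker_le_center, Ext.card_ker⟩
  have hab : Commute (α : G) β := congrArg Subtype.val (mul_comm' α β)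
  have hne : c.toFun α β ≠ c.toFun β α := by
    intro h
    have e := corCocycle_comm P f₁ f₂ (fusion_pm hfree hCN) hp2 α β
    rw [← hc, sub_eq_zero.2 h, h11, h22, h12, h21, mul_one, mul_zero, sub_zero, mul_one] at e
    exact P.not_dvd_index ((ZMod.natCast_eq_zero_iff _ _).1 e.symm)
  obtain ⟨w, hw⟩ := exists_injective_hom X.card
  set F := twistLift p π w Φ with hF
  have hFgen := isGeneralized_twistLift X w hΦgen hvan
  obtain ⟨ε₁, ε₂, χ₁, χ₂, -, he1, he2, hi1, hi2, hFeq⟩ :=
    exists_two_signed hFgen (by rw [classInner_twistLift_self X w hvan, hnorm])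
  have he1C : (ε₁ : ℂ) * ε₁ = 1 := by exact_mod_cast he1
  have he2C : (ε₂ : ℂ) * ε₂ = 1 := by exact_mod_cast he2
  have hεne : ∀ e : ℤ, e * e = 1 → (e : ℂ) ≠ 0 := fun e he => by
    have : e ≠ 0 := fun h => by simp [h] at he
    exact_mod_cast this
  have hscal : ∀ (χ : IrrCharacter (Ext c)) (e : ℤ), e * e = 1 →
      classInner F (χ : Ext c → ℂ) = e →
      ∀ z : π.ker, (χ : Ext c → ℂ) z = (w z : ℂ) * (χ : Ext c → ℂ) 1 := by
    intro χ e he hi
    rcases twistLift_inner X w hvan χ.2 with h | h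
    · exact h.1
    · rw [← hF, hi] at h; exact absurd h (hεne e he)
  have hsc1 := hscal χ₁ ε₁ he1 hi1
  have hsc2 := hscal χ₂ ε₂ he2 hi2
  -- pushed down constituents
  set η₁ := down p π (χ₁ : Ext c → ℂ) with hη1
  set η₂ := down p π (χ₂ : Ext c → ℂ) with hη2
  have hsum : ∀ g, (ε₁ : ℂ) * η₁ g + (ε₂ : ℂ) * η₂ g = Φ g := by
    intro g
    by_cases hg : IsPRegular p g
    · simp only [hη1, hη2, down, pRegularPart_of_reg hg]
      rw [← hFeq, twistLift_lift X w Φ hg]
    · simp only [hη1, hη2, down, pRegularPart_of_sing hg, hvan g hg, mul_zero, add_zero]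
  have hprin : χ₁ ∈ principalBlock M (Ext c) ∧ χ₂ ∈ principalBlock M (Ext c) := by
    have hsome : χ₁ ∈ principalBlock M (Ext c) ∨ χ₂ ∈ principalBlock M (Ext c) := by
      by_contra hcon
      push Not at hcon
      have h0 : ∀ (χ : IrrCharacter (Ext c)), χ ∉ principalBlock M (Ext c) →
          classInner (down p π (χ : Ext c → ℂ)) (trivChar G : G → ℂ) = 0 := fun χ hχ =>
        classInner_down_eq_zero X hM (iff_of_false hχ (not_not.2 (trivChar_mem_principal hM)))
      have e : classInner Φ (trivChar G : G → ℂ) =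
          (ε₁ : ℂ) * classInner η₁ (trivChar G : G → ℂ) +
            (ε₂ : ℂ) * classInner η₂ (trivChar G : G → ℂ) := by
        rw [← Char.classInner_smul_left, ← Char.classInner_smul_left, ← Char.classInner_add_left]
        exact congrArg (classInner · _) (funext fun g => (hsum g).symm)
      rw [hinner, if_pos rfl, if_neg (Ne.symm hθ1), h0 χ₁ hcon.1, h0 χ₂ hcon.2] at e
      simp at e
    rcases hsome with h | h
    · exact ⟨h, mem_principal_companion X hM hΦB (hεne ε₂ he2) hsum h⟩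
    · exact ⟨mem_principal_companion X hM hΦB (hεne ε₁ he1)
        (fun g => by rw [add_comm]; exact hsum g) h, h⟩
  -- the difference
  set η : G → ℂ := fun g => (ε₁ : ℂ) * η₁ g - (ε₂ : ℂ) * η₂ g with hη
  have hηcf : IsClassFunction G η := fun g h => by
    simp only [hη, hη1, hη2, isClassFunction_down X χ₁.2.isClassFunction g h,
      isClassFunction_down X χ₂.2.isClassFunction g h]
  have hηlin : ∀ f : G → ℂ, classInner η f =
      (ε₁ : ℂ) * classInner η₁ f - (ε₂ : ℂ) * classInner η₂ f := fun f => by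
    rw [← Char.classInner_smul_left, ← Char.classInner_smul_left, ← Char.classInner_sub_left]
    rfl
  have hηB : ∀ χ : IrrCharacter G, χ ∉ principalBlock M G → classInner η (χ : G → ℂ) = 0 := by
    intro χ hχ
    rw [hηlin, hη1, hη2, classInner_down_eq_zero X hM (iff_of_true hprin.1 hχ),
      classInner_down_eq_zero X hM (iff_of_true hprin.2 hχ), mul_zero, mul_zero, sub_zero]
  have hηsing : ∀ g, ¬ IsPRegular p g → η g = 0 := fun g hg => by
    simp only [hη, hη1, hη2, down, pRegularPart_of_sing hg, mul_zero, sub_zero]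
  have hηΦ : classInner η Φ = 0 := by
    rw [hηlin, hη1, hη2, ← classInner_twistLift_eq X w Φ χ₁.2 hsc1,
      ← classInner_twistLift_eq X w Φ χ₂.2 hsc2, ← Char.classInner_conj_symm F,
      ← Char.classInner_conj_symm F, hi1, hi2, map_intCast, map_intCast, he1C, he2C, sub_self]
  set c₁ := classInner η (trivChar G : G → ℂ) with hc1
  set cθ := classInner η (θ : G → ℂ) with hcθ
  have hrel1 : c₁ = (a : ℂ) * cθ := by
    have : classInner η Φ = c₁ - (a : ℂ) * cθ := by
      rw [hc1, hcθ, ← Char.classInner_conj_symm Φ η, hΦsmul, Char.classInner_sub_left,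
        Char.classInner_smul_left, map_sub, map_mul, map_intCast, Char.classInner_conj_symm,
        Char.classInner_conj_symm]
    linear_combination this.symm.trans hηΦ
  obtain ⟨j₀⟩ : Nonempty (HomOrb P) := by
    refine ⟨Quotient.mk _ (Classical.choice ?_)⟩
    obtain ⟨ψ, hψ⟩ := CommGroup.exists_apply_ne_one_of_hasEnoughRootsOfUnity
      (P : Subgroup G) ℂ hv
    exact ⟨⟨ψ, fun h => hψ (by rw [h]; rfl)⟩⟩
  set cy := classInner η (y j₀ : G → ℂ) with hcy
  have hcyj : ∀ j, classInner η (y j : G → ℂ) = cy := by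
    intro j
    simp only [hcy, classInner]
    congr 1
    refine Finset.sum_congr rfl fun g _ => ?_
    by_cases hg : IsPRegular p g
    · rw [hreg j j₀ g hg]
    · rw [hηsing g hg, zero_mul, zero_mul]
  have hexp : ∀ g, η g = c₁ + cθ * (θ : G → ℂ) g + cy * ∑ j, (y j : G → ℂ) g := by
    intro g
    conv_lhs => rw [Char.eq_sum_classInner hηcf]
    have hBf : (principalBlock M G).toFinset = {trivChar G, θ} ∪ Finset.univ.image y := by
      ext χ
      rw [Set.mem_toFinset, hB]
      simp [eq_comm, or_assoc]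
    rw [Finset.sum_apply, ← Finset.sum_subset (Finset.subset_univ (principalBlock M G).toFinset)
      (fun χ _ hχ => by simp [hηB χ (fun h => hχ (Set.mem_toFinset.2 h))]), hBf,
      Finset.sum_union (Finset.disjoint_left.2 fun χ h1 h2' => by
        obtain ⟨j, -, rfl⟩ := Finset.mem_image.1 h2'
        rcases Finset.mem_insert.1 h1 with h | h
        · exact htriv ⟨j, h⟩
        · exact hθy ⟨j, Finset.mem_singleton.1 h⟩),
      Finset.sum_pair (Ne.symm hθ1), Finset.sum_image fun i _ j _ h => hyinj h]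
    simp only [Pi.smul_apply, smul_eq_mul, hcyj, ← Finset.mul_sum]
    rw [← hc1, ← hcθ, trivChar_coe, mul_one]
  have hcy2 : cy = 2 * (δ : ℂ) * c₁ := by
    have h := hexp (v : G)
    have hvs : ¬ IsPRegular p (v : G) := by
      intro h'
      obtain ⟨k, hk⟩ := orderOf_sylow P v.2
      rcases Nat.eq_zero_or_pos k with rfl | hk'
      · exact hv (Subtype.ext (orderOf_eq_one_iff.1 (by rw [hk, pow_zero])))
      · exact h' (hk ▸ dvd_pow_self p hk'.ne')
    rw [hηsing _ hvs, hsing _ hvs, hvsum] at h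
    linear_combination (δ : ℂ) * h + (δ : ℂ) * hrel1.symm - cy * hδC
  set σ : ℂ := c₁ * (1 + 2 * (Fintype.card (HomOrb P) : ℂ)) with hσ
  have hηreg : ∀ g, IsPRegular p g → η g = σ * (1 + (a : ℂ) * (θ : G → ℂ) g) := by
    intro g hg
    rw [hexp g, Finset.sum_congr rfl fun j _ => show (y j : G → ℂ) g =
        (δ : ℂ) * (1 + (a : ℂ) * (θ : G → ℂ) g) by
          linear_combination (δ : ℂ) * hrel j g hg - (y j : G → ℂ) g * hδC,
      Finset.sum_const, Finset.card_univ, nsmul_eq_mul, hσ, hcy2]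
    linear_combination (2 * c₁ * (Fintype.card (HomOrb P) : ℂ) *
      (1 + (a : ℂ) * (θ : G → ℂ) g)) * hδC - (a : ℂ) * (θ : G → ℂ) g * hrel1 -
        cθ * (θ : G → ℂ) g * haC
  -- degrees and values at the involution
  have h1r : IsPRegular p (1 : G) := by simp [IsPRegular, hp.out.ne_one]
  set D : ℂ := (a : ℂ) * (θ : G → ℂ) 1 with hD
  set U : ℂ := (a : ℂ) * (θ : G → ℂ) s with hU
  set s' := lift p π s with hs'
  have hN : (ε₁ : ℂ) * (χ₁ : Ext c → ℂ) 1 + (ε₂ : ℂ) * (χ₂ : Ext c → ℂ) 1 = 1 - D ∧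
      (ε₁ : ℂ) * (χ₁ : Ext c → ℂ) 1 - (ε₂ : ℂ) * (χ₂ : Ext c → ℂ) 1 = σ * (1 + D) := by
    refine ⟨?_, ?_⟩
    · rw [← down_one X (p := p) (χ₁ : Ext c → ℂ), ← down_one X (p := p) (χ₂ : Ext c → ℂ)]
      exact hsum 1
    · rw [← down_one X (p := p) (χ₁ : Ext c → ℂ), ← down_one X (p := p) (χ₂ : Ext c → ℂ)]
      exact hηreg 1 h1r
  have hMs : (ε₁ : ℂ) * (χ₁ : Ext c → ℂ) s' + (ε₂ : ℂ) * (χ₂ : Ext c → ℂ) s' = 1 - U ∧
      (ε₁ : ℂ) * (χ₁ : Ext c → ℂ) s' - (ε₂ : ℂ) * (χ₂ : Ext c → ℂ) s' = σ * (1 + U) := by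
    have e : ∀ f : Ext c → ℂ, down p π f s = f s' := fun f => by
      rw [down, pRegularPart_of_reg hsreg]
    rw [← e (χ₁ : Ext c → ℂ), ← e (χ₂ : Ext c → ℂ)]
    exact ⟨hsum s, hηreg s hsreg⟩
  -- products of two conjugates
  have hs'inv : s'⁻¹ = s' := by rw [hs', ← lift_inv X hsreg, hsinv]
  have hs'spec := lift_spec X hsreg
  have hbij : ∀ f : G → ℂ, ∑ x ∈ Char.classFinset s', f (π x) = ∑ g ∈ Char.classFinset s, f g := by
    intro f
    refine Finset.sum_bij' (fun x _ => π x) (fun g _ => lift p π g) (fun x hx => ?_) (fun g hg => ?_)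
      (fun x hx => ?_) (fun g hg => ?_) (fun _ _ => rfl)
    · obtain ⟨k, rfl⟩ := isConj_iff.1 (Char.mem_classFinset.1 hx)
      exact Char.mem_classFinset.2 (isConj_iff.2 ⟨π k, by rw [map_mul, map_mul, map_inv, hs'spec.2]⟩)
    · obtain ⟨k, rfl⟩ := isConj_iff.1 (Char.mem_classFinset.1 hg)
      obtain ⟨k', rfl⟩ := X.surj k
      exact Char.mem_classFinset.2 (isConj_iff.2 ⟨k', (lift_conj X hsreg k').symm⟩)
    · obtain ⟨k, rfl⟩ := isConj_iff.1 (Char.mem_classFinset.1 hx)
      exact lift_proj X (by rw [Block.isPRegular_conj_iff]; exact hs'spec.1)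
    · obtain ⟨k, rfl⟩ := isConj_iff.1 (Char.mem_classFinset.1 hg)
      exact (lift_spec X ((Block.isPRegular_conj_iff s k).2 hsreg)).2
  have hcards : ((Char.classFinset s').card : ℂ) = ((Char.classFinset s).card : ℂ) := by
    simpa using hbij fun _ => 1
  have hinvol : ∀ x ∈ Char.classFinset s', x⁻¹ = x := by
    intro x hx
    obtain ⟨k, rfl⟩ := isConj_iff.1 (Char.mem_classFinset.1 hx)
    rw [mul_inv_rev, mul_inv_rev, inv_inv, hs'inv, mul_assoc]
  have hpairs : ∑ x ∈ Char.classFinset s', ∑ z ∈ Char.classFinset s', F (x * z) =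
      ∑ g ∈ Char.classFinset s, ∑ h ∈ Char.classFinset s, Φ (g * h) := by
    rw [← hbij fun g => ∑ h ∈ Char.classFinset s, Φ (g * h)]
    refine Finset.sum_congr rfl fun x hx => ?_
    rw [← hbij fun h => Φ (π x * h)]
    exact Finset.sum_congr rfl fun z hz => twistLift_pair X hp2 w hvan (hinvol x hx) (hinvol z hz)
  set K : ℂ := ((Char.classFinset s).card : ℂ) with hK
  have hK0 : K ≠ 0 := by
    rw [hK, Nat.cast_ne_zero]
    exact (Finset.card_pos.2 ⟨s, Char.mem_classFinset.2 (IsConj.refl s)⟩).ne'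
  have heq : K ^ 2 * ((ε₁ : ℂ) * ((χ₁ : Ext c → ℂ) s' ^ 2 / (χ₁ : Ext c → ℂ) 1) +
      (ε₂ : ℂ) * ((χ₂ : Ext c → ℂ) s' ^ 2 / (χ₂ : Ext c → ℂ) 1)) =
      K ^ 2 * (1 - (a : ℂ) * ((θ : G → ℂ) s ^ 2 / (θ : G → ℂ) 1)) := by
    have hl : ∑ x ∈ Char.classFinset s', ∑ z ∈ Char.classFinset s', F (x * z) =
        (ε₁ : ℂ) * (((Char.classFinset s').card : ℂ) ^ 2 *
          ((χ₁ : Ext c → ℂ) s' ^ 2 / (χ₁ : Ext c → ℂ) 1)) +
        (ε₂ : ℂ) * (((Char.classFinset s').card : ℂ) ^ 2 *
          ((χ₂ : Ext c → ℂ) s' ^ 2 / (χ₂ : Ext c → ℂ) 1)) := by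
      rw [← sum_class_pair χ₁ s', ← sum_class_pair χ₂ s']
      simp only [Finset.mul_sum, ← Finset.sum_add_distrib]
      exact Finset.sum_congr rfl fun x _ => Finset.sum_congr rfl fun z _ => hFeq _
    have hr : ∑ g ∈ Char.classFinset s, ∑ h ∈ Char.classFinset s, Φ (g * h) =
        K ^ 2 - (a : ℂ) * (K ^ 2 * ((θ : G → ℂ) s ^ 2 / (θ : G → ℂ) 1)) := by
      rw [hK, ← sum_class_pair θ s]
      simp only [hΦdef, Finset.sum_sub_distrib, ← Finset.mul_sum, Finset.sum_const, nsmul_eq_mul,
        mul_one]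
      ring
    rw [hcards, hpairs, hr] at hl
    linear_combination -hl
  have hθ0 : (θ : G → ℂ) 1 ≠ 0 := θ.2.apply_one_ne_zero
  have hD0 : D ≠ 0 := mul_ne_zero (hεne a ha) hθ0
  have hdiv : ∀ (e u d : ℂ), e * e = 1 → e * (u ^ 2 / d) = (e * u) ^ 2 / (e * d) := by
    intro e u d he
    rw [show (e * u) ^ 2 = e * (e * u ^ 2) by ring,
      mul_div_mul_left _ _ (left_ne_zero_of_mul_eq_one he), mul_div_assoc]
  have hkey := weight_identity (mul_ne_zero (hεne ε₁ he1) χ₁.2.apply_one_ne_zero)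
    (mul_ne_zero (hεne ε₂ he2) χ₂.2.apply_one_ne_zero) hD0 hN.1 hN.2 hMs.1 hMs.2 (by
      rw [← hdiv _ _ _ he1C, ← hdiv _ _ _ he2C, mul_left_cancel₀ (pow_ne_zero 2 hK0) heq, hU, hD,
        ← hdiv _ _ _ haC])
  -- the degree is one
  obtain ⟨d, hd⟩ : ∃ d : ℕ, (θ : G → ℂ) 1 = d := ⟨_, apply_one_eq_charDegree θ⟩
  have hcong : (p : ℤ) ∣ a * d - 1 := by
    obtain ⟨k, hk⟩ := (θ.2.isCharacter.comp (P : Subgroup G).subtype).exists_nat_classInner
      (Char.isCharacter_one (G := (P : Subgroup G)))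
    have hsumv : ∑ u : (P : Subgroup G), (θ : G → ℂ) u =
        (d : ℂ) + ((Nat.card (P : Subgroup G) : ℂ) - 1) * a := by
      rw [← Finset.add_sum_erase _ _ (Finset.mem_univ (1 : (P : Subgroup G))),
        Finset.sum_congr (s₁ := Finset.univ.erase (1 : (P : Subgroup G)))
          (f := fun u : (P : Subgroup G) => (θ : G → ℂ) u) (g := fun _ => (a : ℂ)) rfl
          fun u hu => hsing (u : G) fun h' => by
          obtain ⟨i, hi⟩ := orderOf_sylow P u.2
          rcases Nat.eq_zero_or_pos i with rfl | hi'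
          · exact (Finset.mem_erase.1 hu).1 (Subtype.ext (orderOf_eq_one_iff.1 (by
              rw [hi, pow_zero])))
          · exact h' (hi ▸ dvd_pow_self p hi'.ne'),
        Finset.sum_const, Finset.card_erase_of_mem (Finset.mem_univ _), Finset.card_univ,
        nsmul_eq_mul, Nat.cast_sub Fintype.card_pos, ← Nat.card_eq_fintype_card,
        Subgroup.coe_one, hd, Nat.cast_one]
    simp only [classInner, map_one, mul_one] at hk
    rw [inv_mul_eq_iff_eq_mul₀ Char.card_cast_ne_zero] at hk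
    have hk' : (d : ℂ) + ((Nat.card (P : Subgroup G) : ℂ) - 1) * a =
        (Nat.card (P : Subgroup G) : ℂ) * k := hsumv ▸ hk
    have hkZ : (d : ℤ) + ((Nat.card (P : Subgroup G) : ℤ) - 1) * a =
        (Nat.card (P : Subgroup G) : ℤ) * k := by exact_mod_cast hk'
    obtain ⟨r, hr⟩ := P.isPGroup'.exists_card_eq
    have hr0 : r ≠ 0 := fun h => by
      have := nine_le hp2 hnc; rw [hr, h, pow_zero] at this; omega
    have hpq : (p : ℤ) ∣ (Nat.card (P : Subgroup G) : ℤ) := by
      rw [hr]; exact_mod_cast dvd_pow_self p hr0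
    have : (a : ℤ) * d - 1 = (Nat.card (P : Subgroup G) : ℤ) * (a * k - 1) := by
      linear_combination a * hkZ - (Nat.card (P : Subgroup G) : ℤ) * ha + ha
    rw [this]
    exact hpq.mul_right _
  have hσ1 : σ ^ 2 - 1 ≠ 0 := by
    intro h
    have hp1 := dvd_degree X hw hsc1 (Ext.commutator_mem_ker hab) (Ext.commutator_ne_one hne)
    have hp1' : (p : ℤ) ∣ ε₁ * charDegree (χ₁ : Ext c → ℂ) := (Int.natCast_dvd_natCast.2 hp1).mul_left _
    have hnd : ¬ (p : ℤ) ∣ 1 := fun h1 => hp.out.not_dvd_one (by exact_mod_cast h1)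
    have e1 : (ε₁ : ℂ) * (χ₁ : Ext c → ℂ) 1 = ((1 - D) + σ * (1 + D)) / 2 := by
      linear_combination (hN.1 + hN.2) / 2
    rcases mul_self_eq_one_iff.1 (show σ * σ = 1 by linear_combination h) with h' | h'
    · rw [h'] at e1
      have hz : ε₁ * (charDegree (χ₁ : Ext c → ℂ) : ℤ) = 1 := by
        apply Int.cast_injective (α := ℂ)
        push_cast
        rw [← apply_one_eq_charDegree χ₁, e1]
        ring
      exact hnd (hz ▸ hp1')
    · rw [h'] at e1
      have hz : ε₁ * (charDegree (χ₁ : Ext c → ℂ) : ℤ) = -(a * d) := by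
        apply Int.cast_injective (α := ℂ)
        push_cast
        rw [← apply_one_eq_charDegree χ₁, e1, hD, hd]
        ring
      exact hnd (by have := (dvd_neg.1 (hz ▸ hp1')).sub hcong; simpa using this)
  rcases mul_eq_zero.1 ((mul_eq_zero.1 hkey).resolve_left hσ1) with hD1 | hUD
  · have hadZ : a * (d : ℤ) = 1 := by
      apply Int.cast_injective (α := ℂ)
      push_cast
      rw [← hd, ← hD]
      linear_combination -hD1
    rcases mul_self_eq_one_iff.1 ha with h | h
    · subst h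
      have : d = 1 := by omega
      exact ⟨θ, hθ1, hθB, by rw [hd, this, Nat.cast_one], fun g hg => by rw [hsing g hg, Int.cast_one]⟩
    · subst h; omega
  · exfalso
    have hUD' : (θ : G → ℂ) s = (θ : G → ℂ) 1 := by
      have h0 : D - U = 0 := pow_eq_zero_iff two_ne_zero |>.1 hUD
      rw [hD, hU, ← mul_sub] at h0
      exact (sub_eq_zero.1 ((mul_eq_zero.1 h0).resolve_left (hεne a ha))).symm
    have hker : s ∈ blockKer (principalBlock M G) := by
      intro χ hχ
      rw [hB] at hχ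
      rcases hχ with h | ⟨j, rfl⟩
      · rcases h with rfl | rfl
        · rw [trivChar_coe]
        · exact hUD'
      · have e1 := hrel j s hsreg
        have e2 := hrel j 1 h1r
        rw [hUD', ← e2] at e1
        exact mul_left_cancel₀ (hεne δ hδ) e1
    obtain ⟨K', hK'n, hK'e, hK'p, -⟩ := exists_blockKer hM isPBlock_principal
      (trivChar_mem_principal hM (G := G))
    have hle : K' ≤ pPrimeCore p G :=
      Core.le_pPrimeCore' hK'n ((hp.out.coprime_iff_not_dvd.2 hK'p).symm)
    have hsK : s ∈ pPrimeCore p G := hle (show s ∈ (K' : Set G) by rw [hK'e]; exact hker)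
    rw [hcore, Subgroup.mem_bot] at hsK
    rw [hsK, orderOf_one] at hs
    exact absurd hs (by norm_num)

include hp in
/-- **Smith–Tyrer**, the core-free case: a normal subgroup containing `P` in which the normalizer
of `P` is its centralizer. -/
theorem exists_normal_of_core_bot (hM : IsPModular p M) (hp2 : p ≠ 2)
    (hnc : ¬ IsCyclic (P : Subgroup G)) (hfree : FreeAction P)
    (hCN : (Subgroup.centralizer ((P : Subgroup G) : Set G)).relIndex
      (Subgroup.normalizer ((P : Subgroup G) : Set G)) = 2)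
    (hcore : pPrimeCore p G = ⊥) :
    ∃ K : Subgroup G, K.Normal ∧ (P : Subgroup G) ≤ K ∧
      K ⊓ Subgroup.normalizer ((P : Subgroup G) : Set G) ≤
        Subgroup.centralizer ((P : Subgroup G) : Set G) := by
  classical
  obtain ⟨θ, hθ1, hθB, hd, hsing⟩ := degree_one_of_involution hM hp2 hnc hfree hCN hcore
  obtain ⟨μ, hμ⟩ := Char.exists_hom_of_degree_one θ.2.isCharacter hd
  have hval : ∀ g, (θ : G → ℂ) g = (μ g : ℂ) := fun g => congrFun hμ g
  have hP : (P : Subgroup G) ≤ μ.ker := by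
    intro u hu
    rcases eq_or_ne u 1 with rfl | hu1
    · exact one_mem _
    · refine MonoidHom.mem_ker.2 (Units.ext ?_)
      rw [← hval, hsing u, Units.val_one]
      intro h
      obtain ⟨k, hk⟩ := orderOf_sylow P hu
      rcases Nat.eq_zero_or_pos k with rfl | hk'
      · exact hu1 (orderOf_eq_one_iff.1 (by rw [hk, pow_zero]))
      · exact h (hk ▸ dvd_pow_self p hk'.ne')
  refine ⟨μ.ker, inferInstance, hP, ?_⟩
  have hC : Subgroup.centralizer ((P : Subgroup G) : Set G) ≤ μ.ker := by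
    intro x hx
    obtain ⟨u, hu, hu1⟩ : ∃ u ∈ (P : Subgroup G), u ≠ 1 := by
      refine Subgroup.bot_or_exists_ne_one _ |>.resolve_left fun h => ?_
      have := nine_le hp2 hnc
      rw [h, Subgroup.card_bot] at this
      omega
    have hux : Commute u x := Subgroup.mem_centralizer_iff.1 hx u hu
    by_cases hreg : IsPRegular p x
    · have h := principal_value_free hM hfree hθB hu hu1 hux hreg
      rw [hval, hval, map_mul, Units.val_mul, MonoidHom.mem_ker.1 (hP hu), Units.val_one,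
        one_mul] at h
      exact MonoidHom.mem_ker.2 (Units.ext h)
    · refine MonoidHom.mem_ker.2 (Units.ext ?_)
      rw [← hval, hsing x hreg, Units.val_one]
  rintro n ⟨hnk, hn⟩
  by_contra hnC
  apply hθ1
  have hNle : Subgroup.normalizer ((P : Subgroup G) : Set G) ≤ μ.ker := by
    intro m hm
    by_cases hmC : m ∈ Subgroup.centralizer ((P : Subgroup G) : Set G)
    · exact hC hmC
    · have hmn : m * n ∈ Subgroup.centralizer ((P : Subgroup G) : Set G) :=
        (mul_self_mem_centralizer hCN hm hn).2 (iff_of_false hmC hnC)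
      have := hC hmn
      rwa [Subgroup.mul_mem_cancel_right _ hnk] at this
  have htop : μ.ker = ⊤ := by
    haveI : Fact p.Prime := hp
    have h := Sylow.normalizer_sup_eq_top (P.subtype hP)
    rw [show ((P.subtype hP : Subgroup μ.ker).map μ.ker.subtype) = (P : Subgroup G) from
      Subgroup.map_subgroupOf_eq_of_le hP, sup_eq_right.2 hNle] at h
    exact h
  refine Subtype.ext (funext fun g => ?_)
  rw [hval, MonoidHom.mem_ker.1 (htop ▸ Subgroup.mem_top g : g ∈ μ.ker), Units.val_one,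
    trivChar_coe]

end Main

end Cfsg.Lib.SmithTyrer
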