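import Cfsg.Agent.Lib.SmithTyrer.Principal
import Cfsg.Agent.Lib.Local.GlaubermanComplement
import Cfsg.Agent.Lib.Local.PLengthOne

/-!
# Smith–Tyrer: reduction to the core-free case
-/

set_option autoImplicit false
set_option linter.unusedSectionVars false
set_option linter.style.haveILetI false
set_option maxHeartbeats 1000000

open scoped commutatorElement

namespace Cfsg.Lib.SmithTyrer

open Cfsg Cfsg.Lib Cfsg.Lib.Block Subgroup

universe u

variable {p : ℕ} [hp : Fact p.Prime] {G : Type u} [Group G] [Finite G] {P : Sylow p G}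
  [IsMulCommutative (P : Subgroup G)]

include hp in
/-- Either the inertial quotient acts freely or `O^p(G)` is proper. -/
theorem free_or_residual
    (hCN : (centralizer ((P : Subgroup G) : Set G)).relIndex
      (normalizer ((P : Subgroup G) : Set G)) = 2) :
    FreeAction P ∨ pResidual p G ≠ ⊤ := by
  classical
  haveI := Fintype.ofFinite G
  set C := centralizer ((P : Subgroup G) : Set G) with hC
  set N := normalizer ((P : Subgroup G) : Set G) with hN
  refine or_iff_not_imp_left.2 fun hfree htop => ?_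
  obtain ⟨y, hy, hy1, hyne⟩ : ∃ y ∈ (P : Subgroup G), y ≠ 1 ∧
      centralizer ({y} : Set G) ⊓ N ≠ C := by
    unfold FreeAction at hfree
    push Not at hfree
    exact hfree
  have hCle : C ≤ centralizer ({y} : Set G) ⊓ N :=
    le_inf (centralizer_le (Set.singleton_subset_iff.2 hy)) (centralizer_le_normalizer _)
  obtain ⟨n, ⟨hny, hnN⟩, hnC⟩ : ∃ n, n ∈ centralizer ({y} : Set G) ⊓ N ∧ n ∉ C := by
    by_contra h
    push Not at h
    exact hyne (le_antisymm h hCle)
  set D : (P : Subgroup G) →* (P : Subgroup G) :=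
    { toFun := fun v => v * (conjSyl P ⟨n, hnN⟩ v)⁻¹
      map_one' := by simp
      map_mul' := fun a b => by
        simp only [map_mul, mul_inv_rev, mul_comm' ((conjSyl P ⟨n, hnN⟩) b)⁻¹]
        ac_rfl } with hD
  have hker : D.ker ≠ ⊥ := by
    intro h
    have hmem : (⟨y, hy⟩ : (P : Subgroup G)) ∈ D.ker := by
      rw [MonoidHom.mem_ker]
      show (⟨y, hy⟩ : (P : Subgroup G)) * (conjSyl P ⟨n, hnN⟩ ⟨y, hy⟩)⁻¹ = 1
      rw [mul_inv_eq_one]
      apply Subtype.ext
      rw [conjSyl_val]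
      show y = n * y * n⁻¹
      rw [mem_centralizer_singleton_iff.1 hny, mul_inv_cancel_right]
    rw [h, mem_bot] at hmem
    exact hy1 (congrArg Subtype.val hmem)
  have hcomm : ⁅(P : Subgroup G), N⁆ ≤ D.range.map (P : Subgroup G).subtype := by
    rw [commutator_le]
    intro x hx m hm
    by_cases hmC : m ∈ C
    · rw [commutatorElement_eq_one_iff_mul_comm.2 (mem_centralizer_iff.1 hmC x hx)]
      exact one_mem _
    · have hmn : m⁻¹ * n ∈ C := (mul_self_mem_centralizer hCN (inv_mem hm) hnN).2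
        (iff_of_false (fun h => hmC (inv_mem_iff.1 h)) hnC)
      refine ⟨D ⟨x, hx⟩, ⟨_, rfl⟩, ?_⟩
      show (((⟨x, hx⟩ : (P : Subgroup G)) * (conjSyl P ⟨n, hnN⟩ ⟨x, hx⟩)⁻¹ :
        (P : Subgroup G)) : G) = ⁅x, m⁆
      rw [Subgroup.coe_mul, Subgroup.coe_inv, conjSyl_val, commutatorElement_def]
      have e : n * x * n⁻¹ = m * x * m⁻¹ := by
        have h' := mem_centralizer_iff.1 hmn x hx
        calc n * x * n⁻¹ = m * ((m⁻¹ * n) * x * (m⁻¹ * n)⁻¹) * m⁻¹ := by group
          _ = m * x * m⁻¹ := by rw [← h', mul_inv_cancel_right]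
      show x * (n * x * n⁻¹)⁻¹ = x * m * x⁻¹ * m⁻¹
      rw [e]
      group
  have hPle : (P : Subgroup G) ≤ D.range.map (P : Subgroup G).subtype := by
    refine le_trans ?_ hcomm
    rw [hN, ← Fusion.pResidual_inf_eq_of_abelian P, htop, top_inf_eq]
  have htop' : D.range = ⊤ := by
    refine eq_top_iff.2 fun v _ => ?_
    obtain ⟨w, hw, he⟩ := hPle v.2
    exact (Subtype.ext he : w = v) ▸ hw
  exact hker ((MonoidHom.ker_eq_bot_iff D).2
    (Finite.injective_iff_surjective.2 (MonoidHom.range_eq_top.1 htop')))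

include hp in
/-- The normal subgroup, in general. -/
theorem exists_normal (hp2 : p ≠ 2) (hnc : ¬ IsCyclic (P : Subgroup G)) (hfree : FreeAction P)
    (hCN : (centralizer ((P : Subgroup G) : Set G)).relIndex
      (normalizer ((P : Subgroup G) : Set G)) = 2) :
    ∃ K : Subgroup G, K.Normal ∧ (P : Subgroup G) ≤ K ∧
      K ⊓ normalizer ((P : Subgroup G) : Set G) ≤ centralizer ((P : Subgroup G) : Set G) := by
  classical
  haveI := Fintype.ofFinite G
  set H := pPrimeCore p G with hH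
  haveI : Fintype (G ⧸ H) := Fintype.ofFinite _
  set f := QuotientGroup.mk' H with hf
  set Q : Sylow p (G ⧸ H) := P.mapSurjective (QuotientGroup.mk'_surjective H) with hQ
  have hQc : (Q : Subgroup (G ⧸ H)) = (P : Subgroup G).map f := rfl
  have hco : (Nat.card f.ker).Coprime p := by
    rw [hf, QuotientGroup.ker_mk']; exact Core.pPrimeCore_coprime p G
  have hinj : ∀ v ∈ (P : Subgroup G), f v = 1 → v = 1 := by
    intro v hv h
    obtain ⟨k, hk⟩ := orderOf_sylow P hv
    refine orderOf_eq_one_iff.1 (Nat.Coprime.eq_one_of_dvd ?_ dvd_rfl)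
    have hvH : v ∈ f.ker := h
    refine Nat.Coprime.coprime_dvd_left (f.ker.orderOf_dvd_natCard hvH) ?_
    rw [hk]
    exact hco.pow_right k
  set φ := f.subgroupMap (P : Subgroup G) with hφ
  have hφb : Function.Bijective φ := by
    refine ⟨(MonoidHom.ker_eq_bot_iff _).1 (eq_bot_iff.2 fun v hv => ?_),
      f.subgroupMap_surjective _⟩
    exact mem_bot.2 (Subtype.ext (hinj v v.2 (congrArg Subtype.val (MonoidHom.mem_ker.1 hv))))
  let e : (P : Subgroup G) ≃* ((P : Subgroup G).map f) := MulEquiv.ofBijective φ hφb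
  haveI : IsMulCommutative (Q : Subgroup (G ⧸ H)) := by
    refine ⟨⟨?_⟩⟩
    rintro ⟨_, a, ha, rfl⟩ ⟨_, b, hb, rfl⟩
    apply Subtype.ext
    show f a * f b = f b * f a
    rw [← map_mul, ← map_mul, show a * b = b * a from congrArg Subtype.val
      (mul_comm' (⟨a, ha⟩ : (P : Subgroup G)) ⟨b, hb⟩)]
  have hQnc : ¬ IsCyclic (Q : Subgroup (G ⧸ H)) := fun h => hnc (e.isCyclic.2 (hQc ▸ h))
  have hlift : ∀ x ∈ normalizer (((Q : Subgroup (G ⧸ H))) : Set (G ⧸ H)),
      ∃ n ∈ normalizer ((P : Subgroup G) : Set G), f n = x := by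
    rw [hQc]
    exact Local.GlaubermanZJ.exists_normalizer_lift f (QuotientGroup.mk'_surjective H) hco
      P.isPGroup'
  have hcen : ∀ n ∈ normalizer ((P : Subgroup G) : Set G),
      (f n ∈ centralizer ((Q : Subgroup (G ⧸ H)) : Set (G ⧸ H)) ↔
        n ∈ centralizer ((P : Subgroup G) : Set G)) := by
    intro n hn
    refine ⟨fun h => ?_, fun h => mem_centralizer_iff.2 ?_⟩
    · by_contra hnC
      obtain ⟨v, hv, hv1⟩ : ∃ v ∈ (P : Subgroup G), v ≠ 1 :=
        (Subgroup.bot_or_exists_ne_one _).resolve_left fun h0 => by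
          have := nine_le hp2 hnc; rw [h0, Subgroup.card_bot] at this; omega
      have h1 := mem_centralizer_iff.1 h (f v) ⟨v, hv, rfl⟩
      have h2 : f (v * v) = 1 := by
        have h3 : f (n * v * n⁻¹) = f v := by
          rw [map_mul, map_mul, map_inv f n, ← h1, mul_inv_cancel_right]
        rw [inverts hfree hCN hn hnC hv, map_inv] at h3
        rw [map_mul]
        exact inv_eq_iff_mul_eq_one.1 h3
      exact hv1 (eq_one_of_inv_eq hp2 (orderOf_sylow P hv)
        (inv_eq_of_mul_eq_one_right (hinj _ (mul_mem hv hv) h2)))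
    · rintro _ ⟨v, hv, rfl⟩
      rw [← map_mul, ← map_mul, mem_centralizer_iff.1 h v hv]
  obtain ⟨n₀, hn₀, hn₀C⟩ : ∃ n₀ ∈ normalizer ((P : Subgroup G) : Set G),
      n₀ ∉ centralizer ((P : Subgroup G) : Set G) := by
    by_contra h
    push Not at h
    rw [Subgroup.relIndex_eq_one.2 h] at hCN
    omega
  have hQCN : (centralizer ((Q : Subgroup (G ⧸ H)) : Set (G ⧸ H))).relIndex
      (normalizer ((Q : Subgroup (G ⧸ H)) : Set (G ⧸ H))) = 2 := by
    have hn₀' : f n₀ ∈ normalizer ((Q : Subgroup (G ⧸ H)) : Set (G ⧸ H)) := by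
      rw [hQc]
      exact le_normalizer_map f ⟨n₀, hn₀, rfl⟩
    refine Subgroup.index_eq_two_iff.2 ⟨⟨f n₀, hn₀'⟩, fun b => ?_⟩
    obtain ⟨m, hm, hmb⟩ := hlift b b.2
    have e1 : (b * ⟨f n₀, hn₀'⟩ : normalizer ((Q : Subgroup (G ⧸ H)) : Set (G ⧸ H))).1 =
        f (m * n₀) := by rw [Subgroup.coe_mul, map_mul, hmb]
    simp only [mem_subgroupOf, e1, ← hmb]
    rw [hcen _ (mul_mem hm hn₀), hcen _ hm, mul_self_mem_centralizer hCN hm hn₀]
    by_cases hmC : m ∈ centralizer ((P : Subgroup G) : Set G)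
    · exact Or.inr ⟨hmC, fun h => hn₀C (h.1 hmC)⟩
    · exact Or.inl ⟨iff_of_false hmC hn₀C, hmC⟩
  have hQfree : FreeAction Q := by
    intro y hy hy1
    refine le_antisymm ?_ (le_inf (centralizer_le (Set.singleton_subset_iff.2 hy))
      (centralizer_le_normalizer _))
    rintro x ⟨hxy, hxN⟩
    obtain ⟨m, hm, rfl⟩ := hlift x hxN
    refine (hcen m hm).2 ?_
    by_contra hmC
    obtain ⟨v, hv, rfl⟩ := hy
    have h3 : f (m * v * m⁻¹) = f v := by
      rw [map_mul, map_mul, map_inv f m, mem_centralizer_singleton_iff.1 hxy, mul_inv_cancel_right]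
    rw [inverts hfree hCN hm hmC hv, map_inv] at h3
    have h2 := hinj _ (mul_mem hv hv) (by rw [map_mul]; exact inv_eq_iff_mul_eq_one.1 h3)
    exact hy1 (by rw [eq_one_of_inv_eq hp2 (orderOf_sylow P hv)
      (inv_eq_of_mul_eq_one_right h2), map_one])
  obtain ⟨M, hM⟩ := exists_isPModular (hp.out)
  obtain ⟨K, hKn, hKP, hKN⟩ := exists_normal_of_core_bot hM hp2 hQnc hQfree hQCN
    Core.pPrimeCore_quotient_eq_bot
  refine ⟨K.comap f, Subgroup.Normal.comap hKn f, ?_, ?_⟩
  · intro v hv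
    exact hKP ⟨v, hv, rfl⟩
  · rintro n ⟨hnK, hn⟩
    refine (hcen n hn).1 (hKN ⟨hnK, ?_⟩)
    show f n ∈ normalizer (((P : Subgroup G).map f : Subgroup (G ⧸ H)) : Set (G ⧸ H))
    exact le_normalizer_map f ⟨n, hn, rfl⟩

include hp in
/-- The `p`-length is at most one. -/
theorem pLengthLE_of_normal {K : Subgroup G} [K.Normal] (hPK : (P : Subgroup G) ≤ K)
    (hK : K ⊓ normalizer ((P : Subgroup G) : Set G) ≤ centralizer ((P : Subgroup G) : Set G)) :
    PLengthLE p 1 G := by
  classical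
  set T := P.subtype hPK with hT
  have hTc : ∀ x : K, x ∈ (T : Subgroup K) ↔ (x : G) ∈ (P : Subgroup G) := fun _ => Iff.rfl
  haveI : IsMulCommutative (T : Subgroup K) := ⟨⟨fun a b => Subtype.ext (Subtype.ext
    (congrArg Subtype.val (mul_comm' (⟨_, (hTc a.1).1 a.2⟩ : (P : Subgroup G))
      ⟨_, (hTc b.1).1 b.2⟩) : _))⟩⟩
  have hburn : normalizer ((T : Subgroup K) : Set K) ≤ centralizer ((T : Subgroup K) : Set K) := by
    intro x hx
    have hxN : (x : G) ∈ normalizer ((P : Subgroup G) : Set G) := by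
      refine mem_normalizer_iff.2 fun v => ⟨fun hv => ?_, fun hv => ?_⟩
      · exact (hTc _).1 ((mem_normalizer_iff.1 hx ⟨v, hPK hv⟩).1 ((hTc _).2 hv))
      · have hvK : v ∈ K := by
          have := mul_mem (mul_mem (inv_mem x.2) (hPK hv)) x.2
          simpa [mul_assoc] using this
        exact (hTc _).1 ((mem_normalizer_iff.1 hx ⟨v, hvK⟩).2 ((hTc _).2 hv))
    have hxC := hK ⟨x.2, hxN⟩
    exact mem_centralizer_iff.2 fun a ha => Subtype.ext
      (mem_centralizer_iff.1 hxC a ((hTc a).1 ha))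
  obtain ⟨L, hL, hcompl⟩ : ∃ L : Subgroup K, L.Normal ∧ L.IsComplement' (T : Subgroup K) :=
    ⟨_, inferInstance, MonoidHom.ker_transferSylow_isComplement' T hburn⟩
  haveI := hL
  have hLp : (Nat.card L).Coprime p := by
    rw [Core.coprime_iff_not_dvd', ← hcompl.index_eq_card]
    exact T.not_dvd_index
  have hLO : L.map K.subtype ≤ pPrimeCore p G :=
    (Subgroup.map_mono (Core.le_pPrimeCore' hL hLp)).trans
      (Core.pPrimeCore_map_le_of_isSubnormal (Subgroup.Normal.isSubnormal inferInstance))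
  show (upperPSeries p G 3).1 = ⊤
  set N₁ := (upperPSeries p G 1).1 with hN₁
  set N₂ := (upperPSeries p G 2).1 with hN₂
  have h2 : N₂ = (pCore p (G ⧸ N₁)).comap (QuotientGroup.mk' N₁) := rfl
  have h3 : (upperPSeries p G 3).1 = (pPrimeCore p (G ⧸ N₂)).comap (QuotientGroup.mk' N₂) := rfl
  have hN₁e : N₁ = pPrimeCore p G := Local.upperPSeries_one
  have hle : K.map (QuotientGroup.mk' N₁) ≤ (P : Subgroup G).map (QuotientGroup.mk' N₁) := by
    rintro _ ⟨k, hk, rfl⟩
    obtain ⟨l, hl, t, ht, hlt⟩ := mem_sup_of_normal_left.1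
      (hcompl.sup_eq_top ▸ mem_top (⟨k, hk⟩ : K))
    refine ⟨t, (hTc t).1 ht, ?_⟩
    have hl' : (l : G) ∈ N₁ := by rw [hN₁e]; exact hLO ⟨l, hl, rfl⟩
    rw [show k = (l : G) * t from congrArg Subtype.val hlt.symm, map_mul,
      show QuotientGroup.mk' N₁ (l : G) = 1 from (QuotientGroup.eq_one_iff _).2 hl', one_mul]
  have himg : IsPGroup p (K.map (QuotientGroup.mk' N₁)) := (P.isPGroup'.map _).to_le hle
  have hKN₂ : K ≤ N₂ := by
    rw [h2, ← map_le_iff_le_comap]
    exact Core.le_pCore' (Subgroup.Normal.map inferInstance _ (QuotientGroup.mk'_surjective _)) himg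
  have hcop : (Nat.card (G ⧸ N₂)).Coprime p := by
    rw [Core.coprime_iff_not_dvd', ← Subgroup.index_eq_card]
    exact fun h => P.not_dvd_index (h.trans (Subgroup.index_dvd_of_le (hPK.trans hKN₂)))
  rw [h3, Core.pPrimeCore_eq_top hcop, comap_top]

end Cfsg.Lib.SmithTyrer
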