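import Cfsg.Agent.Lib.Block.PartReg
import Cfsg.Agent.Lib.Block.Principal
import Cfsg.Agent.Lib.Block.InflateRegular
import Cfsg.Agent.Lib.Block.InflateDefect
import Cfsg.Agent.Lib.Char.Triple
import Cfsg.Agent.Lib.Char.ExtGroup
import Cfsg.Agent.Lib.Char.Extension
import Cfsg.Agent.Lib.Char.UniformCent

/-!
# Functions on a central extension by a group of prime order

Regular elements lift uniquely, so a function vanishing on singular elements has, for each linear
character of the kernel, a twisted lift. The twisted lift of a generalized character is again one.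
-/

set_option autoImplicit false
set_option linter.unusedSectionVars false
set_option linter.style.haveILetI false
set_option maxHeartbeats 1000000

open scoped ComplexConjugate commutatorElement

namespace Cfsg.Lib.SmithTyrer

open Cfsg Cfsg.Lib Cfsg.Lib.Block

universe u

variable {p : ℕ} [hp : Fact p.Prime] {M : Ideal AlgInt}
  {E : Type u} [Group E] [Fintype E] {G : Type u} [Group G] [Fintype G]

/-- The setting: a central extension with kernel of order `p`. -/
structure CentExt (p : ℕ) (π : E →* G) : Prop where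
  surj : Function.Surjective π
  central : π.ker ≤ Subgroup.center E
  card : Nat.card π.ker = p

variable {π : E →* G} (X : CentExt p π)

include X in
theorem ker_isPGroup : IsPGroup p π.ker := IsPGroup.of_card (n := 1) (by rw [X.card, pow_one])

include X in
theorem ker_comm {z : E} (hz : z ∈ π.ker) (x : E) : Commute z x :=
  ((Subgroup.mem_center_iff.1 (X.central hz)) x).symm

include X hp in
theorem exists_lift (g : G) (hg : IsPRegular p g) : ∃ x : E, IsPRegular p x ∧ π x = g := by
  obtain ⟨x, rfl⟩ := X.surj g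
  refine ⟨pReg p x, not_dvd_orderOf_pReg x, ?_⟩
  obtain ⟨j, hj⟩ := exists_orderOf_pPt (p := p) x
  have h := congrArg π (pPt_mul_pReg (p := p) x)
  rw [map_mul] at h
  by_cases h1 : π (pPt p x) = 1
  · rw [h1, one_mul] at h; exact h
  · obtain ⟨i, -, hi⟩ := (Nat.dvd_prime_pow hp.out).1 (hj ▸ orderOf_map_dvd π (pPt p x))
    exact absurd (h ▸ dvd_orderOf_mul_of_commute (p := p)
      (fun hd => not_dvd_orderOf_pReg (p := p) x (hd.trans (orderOf_map_dvd π _)))
      ((pPt_commute_pReg x).map π) ⟨i, hi⟩ h1) hg

include X hp in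
theorem eq_of_lift {x y : E} (hx : IsPRegular p x) (hy : IsPRegular p y) (h : π x = π y) :
    x = y := by
  by_contra hne
  have hw : y * x⁻¹ ∈ π.ker := by rw [MonoidHom.mem_ker, map_mul, map_inv, h, mul_inv_cancel]
  have hd := dvd_orderOf_mul_of_commute (p := p) hx (ker_comm X hw x)
    (exists_orderOf_eq_pow_of_mem (ker_isPGroup X) hw) fun h1 => hne (mul_inv_eq_one.1 h1).symm
  rw [inv_mul_cancel_right] at hd
  exact hy hd

open Classical in
/-- The regular lift of a regular element. -/
noncomputable def lift (p : ℕ) (π : E →* G) (g : G) : E :=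
  if h : ∃ x : E, IsPRegular p x ∧ π x = g then h.choose else 1

include X hp in
theorem lift_spec {g : G} (hg : IsPRegular p g) :
    IsPRegular p (lift p π g) ∧ π (lift p π g) = g := by
  rw [lift, dif_pos (exists_lift X g hg)]
  exact (exists_lift X g hg).choose_spec

include X hp in
theorem lift_proj {x : E} (hx : IsPRegular p x) : lift p π (π x) = x := by
  have hg : IsPRegular p (π x) := fun h => hx (h.trans (orderOf_map_dvd π x))
  exact eq_of_lift X (lift_spec X hg).1 hx (lift_spec X hg).2

/-- The kernel component of an element over a regular element. -/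
noncomputable def zeta (p : ℕ) (π : E →* G) (x : E) : E := x * (lift p π (π x))⁻¹

include X hp in
theorem zeta_mem {x : E} (hx : IsPRegular p (π x)) : zeta p π x ∈ π.ker := by
  rw [MonoidHom.mem_ker, zeta, map_mul, map_inv, (lift_spec X hx).2, mul_inv_cancel]

theorem zeta_mul_lift (x : E) : zeta p π x * lift p π (π x) = x := inv_mul_cancel_right _ _

include X hp in
theorem pReg_eq_lift {x : E} (hx : IsPRegular p (π x)) : pReg p x = lift p π (π x) := by
  obtain ⟨k, hk⟩ := exists_orderOf_eq_pow_of_mem (ker_isPGroup X) (zeta_mem X hx)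
  exact (eq_pReg (zeta_mul_lift x) (ker_comm X (zeta_mem X hx) _) hk (lift_spec X hx).1).symm

include X hp in
theorem lift_conj {g : G} (hg : IsPRegular p g) (y : E) :
    lift p π (π y * g * (π y)⁻¹) = y * lift p π g * y⁻¹ := by
  have h := lift_proj X (x := y * lift p π g * y⁻¹)
    (by rw [Block.isPRegular_conj_iff]; exact (lift_spec X hg).1)
  rwa [map_mul, map_mul, map_inv, (lift_spec X hg).2] at h

include X hp in
theorem lift_inv {g : G} (hg : IsPRegular p g) : lift p π g⁻¹ = (lift p π g)⁻¹ := by
  have h := lift_proj X (x := (lift p π g)⁻¹)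
    (by rw [IsPRegular, orderOf_inv]; exact (lift_spec X hg).1)
  rwa [map_inv, (lift_spec X hg).2] at h

open Classical in
/-- The lift of a function twisted by a linear character of the kernel. -/
noncomputable def twistLift (p : ℕ) (π : E →* G) (w : π.ker →* ℂˣ) (Φ : G → ℂ) : E → ℂ := fun x =>
  if h : zeta p π x ∈ π.ker then (w ⟨zeta p π x, h⟩ : ℂ) * pRegularPart p Φ (π x) else 0

/-- The restriction of a function to the regular elements, pushed down. -/
noncomputable def down (p : ℕ) (π : E →* G) (f : E → ℂ) : G → ℂ :=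
  pRegularPart p fun g => f (lift p π g)

include X hp in
theorem twistLift_of_reg (w : π.ker →* ℂˣ) (Φ : G → ℂ) {x : E} (hx : IsPRegular p (π x)) :
    twistLift p π w Φ x = (w ⟨zeta p π x, zeta_mem X hx⟩ : ℂ) * Φ (π x) := by
  rw [twistLift, dif_pos (zeta_mem X hx), pRegularPart_of_reg hx]

theorem twistLift_of_sing (w : π.ker →* ℂˣ) (Φ : G → ℂ) {x : E} (hx : ¬ IsPRegular p (π x)) :
    twistLift p π w Φ x = 0 := by
  rw [twistLift]
  split_ifs with h
  · rw [pRegularPart_of_sing hx, mul_zero]
  · rfl

include X hp in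
theorem twistLift_lift (w : π.ker →* ℂˣ) (Φ : G → ℂ) {g : G} (hg : IsPRegular p g) :
    twistLift p π w Φ (lift p π g) = Φ g := by
  obtain ⟨h1, h2⟩ := lift_spec X hg
  have hreg : IsPRegular p (π (lift p π g)) := by rw [h2]; exact hg
  have e : (⟨zeta p π (lift p π g), zeta_mem X hreg⟩ : π.ker) = 1 :=
    Subtype.ext (by simp [zeta, h2])
  rw [twistLift_of_reg X w Φ hreg, e, map_one, Units.val_one, one_mul, h2]

theorem norm_hom_apply {A : Type u} [Group A] [Finite A] (w : A →* ℂˣ) (a : A) :
    (w a : ℂ) * conj (w a : ℂ) = 1 := by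
  rw [Complex.mul_conj', Complex.norm_eq_one_of_pow_eq_one (n := orderOf a)
    (by rw [← Units.val_pow_eq_pow_val, ← map_pow, pow_orderOf_eq_one, map_one, Units.val_one])
    (orderOf_pos a).ne']
  simp

include X hp in
theorem isClassFunction_twistLift (w : π.ker →* ℂˣ) {Φ : G → ℂ} (hΦ : IsClassFunction G Φ) :
    IsClassFunction E (twistLift p π w Φ) := by
  intro x y
  by_cases hx : IsPRegular p (π x)
  · have hx' : IsPRegular p (π (y * x * y⁻¹)) := by
      rw [map_mul, map_mul, map_inv, Block.isPRegular_conj_iff]; exact hx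
    rw [twistLift_of_reg X w Φ hx, twistLift_of_reg X w Φ hx', map_mul π, map_mul π, map_inv π,
      hΦ]
    congr 3
    apply Subtype.ext
    show zeta p π (y * x * y⁻¹) = zeta p π x
    rw [zeta, map_mul, map_mul, map_inv, lift_conj X hx]
    calc y * x * y⁻¹ * (y * lift p π (π x) * y⁻¹)⁻¹ = y * zeta p π x * y⁻¹ := by rw [zeta]; group
      _ = zeta p π x := by
        rw [← (ker_comm X (zeta_mem X hx) y).eq, mul_inv_cancel_right]
  · rw [twistLift_of_sing w Φ hx, twistLift_of_sing w Φ]
    rwa [map_mul, map_mul, map_inv, Block.isPRegular_conj_iff]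

theorem exists_int_classInner_generalized {f h : G → ℂ} (hf : IsGeneralizedCharacter G f)
    (hh : IsGeneralizedCharacter G h) : ∃ n : ℤ, classInner f h = n := by
  obtain ⟨a, b, ha, hb, rfl⟩ := hf
  obtain ⟨c, d, hc, hd, rfl⟩ := hh
  obtain ⟨i, hi⟩ := ha.exists_nat_classInner hc
  obtain ⟨j, hj⟩ := ha.exists_nat_classInner hd
  obtain ⟨k, hk⟩ := hb.exists_nat_classInner hc
  obtain ⟨l, hl⟩ := hb.exists_nat_classInner hd
  refine ⟨(i : ℤ) - j - k + l, ?_⟩
  have e : classInner (a - b) (c - d) =
      classInner a c - classInner a d - classInner b c + classInner b d := by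
    simp only [classInner, Pi.sub_apply, map_sub]
    simp only [← mul_sub, ← mul_add, ← Finset.sum_sub_distrib, ← Finset.sum_add_distrib]
    congr 1
    exact Finset.sum_congr rfl fun g _ => by ring
  rw [e, hi, hj, hk, hl]
  push_cast
  ring

include X hp in
/-- Either the kernel acts on a character by `w`, or the twisted lift is orthogonal to it. -/
theorem twistLift_inner (w : π.ker →* ℂˣ) {Φ : G → ℂ}
    (hvan : ∀ g, ¬ IsPRegular p g → Φ g = 0) {ψ : E → ℂ} (hψ : IsIrrCharacter E ψ) :
    ((∀ z : π.ker, ψ (z : E) = (w z : ℂ) * ψ 1) ∧ classInner (twistLift p π w Φ) ψ =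
        classInner (fun x => Φ (π x)) (fun x => ψ (pReg p x))) ∨
      classInner (twistLift p π w Φ) ψ = 0 := by
  have hmul : ∀ (z : π.ker) (x : E), ψ (z * x) * ψ 1 = ψ z * ψ x := fun z x =>
    Char.irr_apply_central_mul hψ (fun g => ((ker_comm X z.2) g).symm.eq) x
  by_cases hscal : ∀ z : π.ker, ψ (z : E) = (w z : ℂ) * ψ 1
  · refine Or.inl ⟨hscal, ?_⟩
    simp only [classInner]
    congr 1
    refine Finset.sum_congr rfl fun x _ => ?_
    by_cases hx : IsPRegular p (π x)
    · rw [twistLift_of_reg X w Φ hx, pReg_eq_lift X hx]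
      have h := hmul ⟨_, zeta_mem X hx⟩ (lift p π (π x))
      rw [hscal, show ((⟨_, zeta_mem X hx⟩ : π.ker) : E) * lift p π (π x) = x from
        zeta_mul_lift x] at h
      have hx' : ψ x = (w ⟨_, zeta_mem X hx⟩ : ℂ) * ψ (lift p π (π x)) :=
        mul_right_cancel₀ hψ.apply_one_ne_zero (h.trans (by ring))
      rw [hx', map_mul]
      linear_combination (Φ (π x) * conj (ψ (lift p π (π x)))) *
        norm_hom_apply w ⟨_, zeta_mem X hx⟩
    · rw [twistLift_of_sing w Φ hx, hvan _ hx, zero_mul, zero_mul]
  · push Not at hscal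
    obtain ⟨z, hz⟩ := hscal
    right
    set c := ψ (z : E) / ψ 1 with hc
    have hψz : ∀ x, ψ (z * x) = c * ψ x := fun x => by
      rw [hc, div_mul_eq_mul_div, eq_div_iff hψ.apply_one_ne_zero]; exact hmul z x
    have hFz : ∀ x, twistLift p π w Φ (z * x) = (w z : ℂ) * twistLift p π w Φ x := by
      intro x
      have hπ : π (z * x) = π x := by rw [map_mul, MonoidHom.mem_ker.1 z.2, one_mul]
      by_cases hx : IsPRegular p (π x)
      · have e : (⟨zeta p π (z * x), zeta_mem X (hπ ▸ hx)⟩ : π.ker) =
            z * ⟨zeta p π x, zeta_mem X hx⟩ :=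
          Subtype.ext (by simp [zeta, hπ, mul_assoc])
        rw [twistLift_of_reg X w Φ hx, twistLift_of_reg X w Φ (hπ ▸ hx), e, map_mul, Units.val_mul,
          hπ, mul_assoc]
      · rw [twistLift_of_sing w Φ hx, twistLift_of_sing w Φ (hπ ▸ hx), mul_zero]
    have hne : (w z : ℂ) * conj c ≠ 1 := by
      intro h1
      apply hz
      have h2 : conj (w z : ℂ) * c = 1 := by
        have := congrArg conj h1; rwa [map_mul, map_one, Complex.conj_conj] at this
      have h3 : c = (w z : ℂ) := by
        linear_combination (w z : ℂ) * h2 - c * norm_hom_apply w z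
      rw [← h3, hc, div_mul_cancel₀ _ hψ.apply_one_ne_zero]
    have hS : ∑ x, twistLift p π w Φ x * conj (ψ x) =
        (w z : ℂ) * conj c * ∑ x, twistLift p π w Φ x * conj (ψ x) := by
      conv_lhs => rw [← Equiv.sum_comp (Equiv.mulLeft (z : E))]
      rw [Finset.mul_sum]
      refine Finset.sum_congr rfl fun x _ => ?_
      rw [Equiv.coe_mulLeft, hFz, hψz, map_mul]
      ring
    have h0 : ∑ x, twistLift p π w Φ x * conj (ψ x) = 0 := by
      by_contra hne0
      exact hne (mul_right_cancel₀ hne0 (by rw [one_mul]; exact hS.symm))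
    rw [classInner, h0, mul_zero]

include X hp in
/-- The twisted lift of a generalized character vanishing on singular elements is one too. -/
theorem isGeneralized_twistLift (w : π.ker →* ℂˣ) {Φ : G → ℂ}
    (hΦ : IsGeneralizedCharacter G Φ) (hvan : ∀ g, ¬ IsPRegular p g → Φ g = 0) :
    IsGeneralizedCharacter E (twistLift p π w Φ) := by
  refine Char.isGeneralizedCharacter_iff.2
    ⟨isClassFunction_twistLift X w hΦ.isClassFunction, fun ψ hψ => ?_⟩
  rcases twistLift_inner X w hvan hψ with ⟨-, h⟩ | h
  · obtain ⟨a, b, ha, hb, rfl⟩ := hΦ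
    rw [h]
    exact exists_int_classInner_generalized
      ⟨fun x => a (π x), fun x => b (π x), ha.comp π, hb.comp π, rfl⟩
      (isGeneralized_comp_pReg hψ.isCharacter)
  · exact ⟨0, by rw [h, Int.cast_zero]⟩

include X hp in
theorem classInner_twistLift_self (w : π.ker →* ℂˣ) {Φ : G → ℂ}
    (hvan : ∀ g, ¬ IsPRegular p g → Φ g = 0) :
    classInner (twistLift p π w Φ) (twistLift p π w Φ) = classInner Φ Φ := by
  rw [← Char.classInner_comp_surjective π X.surj Φ Φ]
  simp only [classInner]
  congr 1
  refine Finset.sum_congr rfl fun x _ => ?_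
  by_cases hx : IsPRegular p (π x)
  · rw [twistLift_of_reg X w Φ hx, map_mul]
    linear_combination (Φ (π x) * conj (Φ (π x))) * norm_hom_apply w ⟨_, zeta_mem X hx⟩
  · rw [twistLift_of_sing w Φ hx, hvan _ hx]

include X hp in
/-- The inner product with the twisted lift in terms of the pushed down function. -/
theorem classInner_twistLift_eq (w : π.ker →* ℂˣ) (Φ : G → ℂ) {ψ : E → ℂ} (hψ : IsIrrCharacter E ψ)
    (hscal : ∀ z : π.ker, ψ (z : E) = (w z : ℂ) * ψ 1) :
    classInner ψ (twistLift p π w Φ) = classInner (down p π ψ) Φ := by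
  rw [← Char.classInner_comp_surjective π X.surj (down p π ψ) Φ]
  simp only [classInner]
  congr 1
  refine Finset.sum_congr rfl fun x _ => ?_
  by_cases hx : IsPRegular p (π x)
  · rw [twistLift_of_reg X w Φ hx, down, pRegularPart_of_reg hx, map_mul]
    have h := Char.irr_apply_central_mul hψ (z := zeta p π x)
      (fun g => ((ker_comm X (zeta_mem X hx)) g).symm.eq) (lift p π (π x))
    rw [zeta_mul_lift, hscal ⟨_, zeta_mem X hx⟩] at h
    have hx' : ψ x = (w ⟨_, zeta_mem X hx⟩ : ℂ) * ψ (lift p π (π x)) :=
      mul_right_cancel₀ hψ.apply_one_ne_zero (h.trans (by ring))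
    rw [hx']
    linear_combination (ψ (lift p π (π x)) * conj (Φ (π x))) *
      norm_hom_apply w ⟨_, zeta_mem X hx⟩
  · rw [twistLift_of_sing w Φ hx, down, pRegularPart_of_sing hx, map_zero, mul_zero, zero_mul]

include X hp in
/-- Inner products of pushed down functions. -/
theorem classInner_down (f : E → ℂ) (h : G → ℂ) :
    classInner (down p π f) h = (p : ℂ) * regInner p f (fun x => h (π x)) := by
  rw [← Char.classInner_comp_surjective π X.surj (down p π f) h]
  simp only [regInner, classInner]
  rw [← mul_left_comm]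
  congr 1
  classical
  have e1 : ∀ x : E, down p π f (π x) * conj (h (π x)) =
      (fun g : G => down p π f g * conj (h g)) (π x) := fun _ => rfl
  rw [Finset.sum_congr rfl fun x _ => e1 x,
    Char.sum_comp_surjective π X.surj (fun g : G => down p π f g * conj (h g)), X.card]
  congr 1
  rw [← Finset.sum_filter_add_sum_filter_not Finset.univ (fun x : E => IsPRegular p x),
    Finset.sum_eq_zero (s := Finset.univ.filter fun x : E => ¬ IsPRegular p x) (fun x hx => by
      rw [pRegularPart_of_sing (Finset.mem_filter.1 hx).2, zero_mul]), add_zero,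
    ← Finset.sum_filter_add_sum_filter_not Finset.univ (fun g : G => IsPRegular p g),
    Finset.sum_eq_zero (s := Finset.univ.filter fun g : G => ¬ IsPRegular p g) (fun g hg => by
      rw [down, pRegularPart_of_sing (Finset.mem_filter.1 hg).2, zero_mul]), add_zero]
  refine Finset.sum_bij' (fun g _ => lift p π g) (fun x _ => π x)
    (fun g hg => Finset.mem_filter.2 ⟨Finset.mem_univ _, (lift_spec X (Finset.mem_filter.1 hg).2).1⟩)
    (fun x hx => Finset.mem_filter.2 ⟨Finset.mem_univ _, fun hd =>
      (Finset.mem_filter.1 hx).2 (hd.trans (orderOf_map_dvd π x))⟩)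
    (fun g hg => (lift_spec X (Finset.mem_filter.1 hg).2).2)
    (fun x hx => lift_proj X (Finset.mem_filter.1 hx).2) fun g hg => ?_
  rw [down, pRegularPart_of_reg (Finset.mem_filter.1 hg).2,
    pRegularPart_of_reg (lift_spec X (Finset.mem_filter.1 hg).2).1,
    (lift_spec X (Finset.mem_filter.1 hg).2).2]

include X hp in
theorem isClassFunction_down {f : E → ℂ} (hf : IsClassFunction E f) :
    IsClassFunction G (down p π f) := by
  intro g x
  obtain ⟨y, rfl⟩ := X.surj x
  by_cases hg : IsPRegular p g
  · rw [down, pRegularPart_of_reg ((Block.isPRegular_conj_iff g (π y)).2 hg),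
      pRegularPart_of_reg hg]
    show f (lift p π _) = f (lift p π g)
    rw [lift_conj X hg, hf]
  · rw [down, pRegularPart_of_sing (fun h => hg ((Block.isPRegular_conj_iff g (π y)).1 h)),
      pRegularPart_of_sing hg]

include X hp in
/-- A kernel element which is a commutator forces the degree to be divisible by `p`. -/
theorem dvd_degree {w : π.ker →* ℂˣ} (hw : Function.Injective w) {ψ : IrrCharacter E}
    (hscal : ∀ z : π.ker, (ψ : E → ℂ) (z : E) = (w z : ℂ) * (ψ : E → ℂ) 1)
    {a b : E} (hab : ⁅a, b⁆ ∈ π.ker) (hne : ⁅a, b⁆ ≠ 1) :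
    p ∣ charDegree (ψ : E → ℂ) := by
  obtain ⟨n, ρ, hρ, he⟩ := ψ.2
  haveI := hρ
  obtain ⟨c, hc⟩ := Char.exists_smul_of_comm ρ (ρ ⁅a, b⁆) fun g => by
    rw [← map_mul, ← map_mul, (ker_comm X hab g).eq]
  have htr := hscal ⟨_, hab⟩
  rw [← he, Representation.char_one, Module.finrank_fin_fun] at htr
  simp only [Representation.character, hc, map_smul, LinearMap.trace_one, Module.finrank_fin_fun,
    smul_eq_mul] at htr
  have hn0 : (n : ℂ) ≠ 0 := by
    have := ψ.2.apply_one_ne_zero
    rwa [← he, Representation.char_one, Module.finrank_fin_fun] at this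
  have hcw : c = (w ⟨_, hab⟩ : ℂ) := mul_right_cancel₀ hn0 htr
  have h1 : Char.detHom ρ ⁅a, b⁆ = 1 := by
    rw [map_commutatorElement, commutatorElement_eq_one_iff_mul_comm, mul_comm]
  have h2 := congrArg Units.val h1
  rw [Char.detHom_apply, hc, LinearMap.det_smul, map_one, mul_one, Module.finrank_fin_fun,
    Units.val_one, hcw] at h2
  have h3 : (⟨_, hab⟩ : π.ker) ^ n = 1 := hw (by
    rw [map_pow, map_one]; exact Units.ext (by rw [Units.val_pow_eq_pow_val]; exact h2))
  have h4 : orderOf (⟨_, hab⟩ : π.ker) = p := by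
    rcases (Nat.dvd_prime hp.out).1 (X.card ▸ orderOf_dvd_natCard (⟨_, hab⟩ : π.ker)) with h | h
    · exact absurd (congrArg Subtype.val (orderOf_eq_one_iff.1 h)) hne
    · exact h
  have hdeg : charDegree (ψ : E → ℂ) = n := by
    rw [charDegree, ← he, Representation.char_one, Module.finrank_fin_fun, Complex.natCast_re,
      Nat.floor_natCast]
  rw [hdeg, ← h4]
  exact orderOf_dvd_of_pow_eq_one h3

/-- An injective linear character of a group of prime order. -/
theorem exists_injective_hom {A : Type u} [Group A] [Finite A] (hA : Nat.card A = p) :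
    ∃ w : A →* ℂˣ, Function.Injective w := by
  haveI : IsCyclic A := isCyclic_of_prime_card hA
  letI : CommGroup A := IsCyclic.commGroup
  obtain ⟨g, hg⟩ : ∃ g : A, g ≠ 1 := by
    haveI : Nontrivial A := Finite.one_lt_card_iff_nontrivial.1 (hA ▸ hp.out.one_lt)
    exact exists_ne 1
  obtain ⟨w, hw⟩ := CommGroup.exists_apply_ne_one_of_hasEnoughRootsOfUnity A ℂ hg
  refine ⟨w, (MonoidHom.ker_eq_bot_iff w).1 ?_⟩
  haveI : Fact (Nat.card A).Prime := ⟨hA ▸ hp.out⟩
  exact (w.ker.eq_bot_or_eq_top_of_prime_card).resolve_right fun h =>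
    hw (MonoidHom.mem_ker.1 (h ▸ Subgroup.mem_top g))

include hp in
/-- Composition with a surjection respects blocks. -/
theorem sameBlock_comp (hM : IsPModular p M) (hπ : Function.Surjective π) {χ χ' : G → ℂ}
    (h : SameBlock M χ χ') :
    SameBlock M (fun x => χ (π x)) (fun x => χ' (π x)) := by
  intro x
  have hle : Subgroup.centralizer ({x} : Set E) ≤
      (Subgroup.centralizer ({π x} : Set G)).comap π := by
    intro y hy
    simp only [Subgroup.mem_comap, Subgroup.mem_centralizer_iff, Set.mem_singleton_iff,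
      forall_eq] at hy ⊢
    rw [← map_mul, hy, map_mul]
  obtain ⟨c, hc⟩ := Subgroup.index_dvd_of_le hle
  rw [Subgroup.index_comap_of_surjective _ hπ] at hc
  have e : ∀ f : G → ℂ, centralChar (fun x => f (π x)) x = (c : ℂ) * centralChar f (π x) := by
    intro f
    rw [centralChar, centralChar, hc, Nat.cast_mul, map_one]
    ring
  rw [e, e, ← mul_sub]
  exact memLocalIdeal_mul_left hM (natCast_mem_locRing hM c) (h _)

end Cfsg.Lib.SmithTyrer
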